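import Groth.Agent.Ega4dB.CIFibre
import Groth.Agent.Ega4dB.FibreComp
import Groth.Agent.Ega4dB.FiberStalk
import Groth.Agent.Ega4dB.CITransport
import Groth.Agent.S2164
import Groth.Agent.S0114
import Groth.Agent.S1163
import Groth.Agent.Synt.K563.SchDict

/-!
# Complete intersection fibres and flat covers of the source
-/

set_option autoImplicit false

universe u

open CategoryTheory CategoryTheory.Limits AlgebraicGeometry TopologicalSpace

namespace K389.SynDesc

/-- Avramov for stalks: for a flat morphism, locally of finite type, with Noetherian stalks, the local ring at `x` is a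
complete intersection iff the one at `f x` and the one of the fibre are. -/
theorem isCI_stalk_iff {X S : Scheme.{u}} (f : X ⟶ S) [Flat f] [LocallyOfFiniteType f] (x : X)
    [IsNoetherianRing (S.presheaf.stalk (f.base x))] :
    Pi1.IsCompleteIntersection (X.presheaf.stalk x) ↔
      Pi1.IsCompleteIntersection (S.presheaf.stalk (f.base x)) ∧
        Pi1.IsCompleteIntersection (CInt.fiberStalk f x) := by
  let : Algebra (S.presheaf.stalk (f x)) (X.presheaf.stalk x) := (f.stalkMap x).hom.toAlgebra
  have h1 : IsLocalHom (algebraMap (S.presheaf.stalk (f x)) (X.presheaf.stalk x)) :=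
    inferInstanceAs (IsLocalHom (f.stalkMap x).hom)
  have h2 : Module.Flat (S.presheaf.stalk (f x)) (X.presheaf.stalk x) :=
    Flat.stalkMap f x
  have hN : IsNoetherianRing (S.presheaf.stalk (f x)) := ‹_›
  have h3 : Algebra.EssFiniteType (S.presheaf.stalk (f x)) (X.presheaf.stalk x) :=
    LocallyOfFiniteType.stalkMap f x
  have h4 : IsNoetherianRing (X.presheaf.stalk x) :=
    Algebra.EssFiniteType.isNoetherianRing (S.presheaf.stalk (f x)) (X.presheaf.stalk x)
  have h5 : IsLocalRing (X.presheaf.stalk x ⧸ Ideal.map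
      (algebraMap (S.presheaf.stalk (f x)) (X.presheaf.stalk x))
      (IsLocalRing.maximalIdeal (S.presheaf.stalk (f x)))) :=
    Groth.Agent.Ega4dB.FiberStalk.isLocalRing_quot f x
  refine (Groth.Agent.S2164.result (A := S.presheaf.stalk (f x)) (B := X.presheaf.stalk x)).trans
    (and_congr_right fun _ => ⟨fun h => ?_, fun h => ?_⟩)
  · exact Groth.Agent.Ega4dB.CITransport.isCompleteIntersection_of_ringEquiv
      (Groth.Agent.Ega4dB.FiberStalk.fiberStalkEquiv f x) h
  · exact Groth.Agent.Ega4dB.CITransport.isCompleteIntersection_of_ringEquiv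
      (Groth.Agent.Ega4dB.FiberStalk.fiberStalkEquiv f x).symm h

/-- Complete intersection fibres of a composite whose first morphism is flat. -/
theorem isCI_fiberStalk_comp_iff {X Y Z : Scheme.{u}} (f : X ⟶ Y) (g : Y ⟶ Z) [Flat f]
    [LocallyOfFiniteType f] [LocallyOfFiniteType g] (x : X) :
    Pi1.IsCompleteIntersection (CInt.fiberStalk (f ≫ g) x) ↔
      Pi1.IsCompleteIntersection (CInt.fiberStalk g (f x)) ∧
        Pi1.IsCompleteIntersection (CInt.fiberStalk f x) := by
  have hft : LocallyOfFiniteType (g.fiberToSpecResidueField ((f ≫ g) x)) := inferInstance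
  have : IsLocallyNoetherian (g.fiber ((f ≫ g) x)) :=
    LocallyOfFiniteType.isLocallyNoetherian (g.fiberToSpecResidueField ((f ≫ g) x))
  have hpb := Groth.Agent.Ega4dB.FibreComp.isPullback_fiberMap f g ((f ≫ g) x)
  have h1 : Flat (CInt.fiberMap f g ((f ≫ g) x)) :=
    MorphismProperty.of_isPullback (P := @Flat) hpb inferInstance
  have h2 : LocallyOfFiniteType (CInt.fiberMap f g ((f ≫ g) x)) :=
    MorphismProperty.of_isPullback (P := @LocallyOfFiniteType) hpb inferInstance
  refine (isCI_stalk_iff (CInt.fiberMap f g ((f ≫ g) x)) ((f ≫ g).asFiber x)).trans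
    (and_congr ?_ ?_)
  · apply Groth.Agent.Ega4dB.CIFibre.isCI_fiber_iff g ((f ≫ g) x) _ (f x)
    rw [← Scheme.Hom.comp_apply, Groth.Agent.Ega4dB.FibreComp.fiberMap_fiberι, Scheme.Hom.comp_apply,
        (f ≫ g).fiberι_asFiber]
  · have h3 := Groth.Agent.Ega4dB.CIFibre.isCI_fiberStalk_iff_of_isPullback hpb ((f ≫ g).asFiber x)
    rw [(f ≫ g).fiberι_asFiber] at h3
    exact h3.symm

end K389.SynDesc
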