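import Mathlib.AlgebraicGeometry.Sites.BigZariski
import Mathlib.CategoryTheory.Sites.EffectiveEpimorphic

/-!
# Sheaf conditions on schemes can be checked after pulling back to affine schemes
-/

set_option autoImplicit false
open CategoryTheory CategoryTheory.Limits AlgebraicGeometry Opposite
universe w u

namespace K389.AffineSheaf

variable (P : Scheme.{u}ᵒᵖ ⥤ Type w)

/-- Zariski sheaf property for an open cover. -/
theorem ext_openCover (hP : Presieve.IsSheaf Scheme.zariskiTopology P) {Y : Scheme.{u}}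
    (𝒰 : Scheme.OpenCover.{u} Y) {s t : P.obj (op Y)}
    (h : ∀ i, P.map (𝒰.f i).op s = P.map (𝒰.f i).op t) : s = t := by
  have h1 : (Presieve.ofArrows 𝒰.X 𝒰.f).IsSheafFor P :=
    hP.isSheafFor _ (Precoverage.generate_mem_toGrothendieck 𝒰.mem₀)
  refine h1.isSeparatedFor.ext ?_
  rintro _ _ ⟨i⟩
  exact h i

theorem isSeparatedFor_of_affine (hP : Presieve.IsSheaf Scheme.zariskiTopology P) {Y : Scheme.{u}}
    (S : Sieve Y) (h : ∀ (V : Scheme.{u}) (v : V ⟶ Y), IsAffine V →
      Presieve.IsSeparatedFor P (S.pullback v).arrows) : Presieve.IsSeparatedFor P S.arrows := by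
  intro x t₁ t₂ h₁ h₂
  refine ext_openCover P hP Y.affineCover fun i => ?_
  refine (h _ (Y.affineCover.f i) inferInstance).ext fun V v hv => ?_
  have e₁ := h₁ (v ≫ Y.affineCover.f i) hv
  have e₂ := h₂ (v ≫ Y.affineCover.f i) hv
  simp only [op_comp, Functor.map_comp] at e₁ e₂
  exact e₁.trans e₂.symm

theorem isSheafFor_of_affine (hP : Presieve.IsSheaf Scheme.zariskiTopology P) {Y : Scheme.{u}}
    (S : Sieve Y) (h : ∀ (V : Scheme.{u}) (v : V ⟶ Y), IsAffine V →
      Presieve.IsSheafFor P (S.pullback v).arrows) : Presieve.IsSheafFor P S.arrows := by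
  have hsep : ∀ {W : Scheme.{u}} (w : W ⟶ Y), Presieve.IsSeparatedFor P (S.pullback w).arrows := by
    intro W w
    refine isSeparatedFor_of_affine P hP _ fun V v hV => ?_
    rw [← Sieve.pullback_comp]
    exact (h V (v ≫ w) hV).isSeparatedFor
  intro x hx
  refine existsUnique_of_exists_of_unique ?_ fun t₁ t₂ h₁ h₂ => by
    have := hsep (𝟙 Y)
    rw [Sieve.pullback_id] at this
    exact this x t₁ t₂ h₁ h₂
  let 𝒰 := Y.affineCover
  have hex : ∀ i, ∃ t : P.obj (op (𝒰.X i)), ∀ ⦃V : Scheme.{u}⦄ (v : V ⟶ 𝒰.X i) (hv : S (v ≫ 𝒰.f i)),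
      P.map v.op t = x (v ≫ 𝒰.f i) hv := fun i =>
    ⟨_, fun V v hv => (h _ (𝒰.f i) inferInstance).valid_glue (hx.pullback (𝒰.f i)) v hv⟩
  choose t ht using hex
  have h1 : (Presieve.ofArrows 𝒰.X 𝒰.f).IsSheafFor P :=
    hP.isSheafFor _ (Precoverage.generate_mem_toGrothendieck 𝒰.mem₀)
  rw [Presieve.isSheafFor_arrows_iff] at h1
  obtain ⟨s, hs, -⟩ := h1 t (fun i j W a b hab => by
    refine (hsep (a ≫ 𝒰.f i)).ext fun V v hv => ?_
    have e1 := ht i (v ≫ a) (by rw [Category.assoc]; exact hv)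
    have e2 := ht j (v ≫ b) (by rw [Category.assoc, ← hab]; exact hv)
    simp only [op_comp, Functor.map_comp] at e1 e2
    refine e1.trans (Eq.trans ?_ e2.symm)
    congr 1
    rw [Category.assoc, Category.assoc, hab])
  refine ⟨s, fun V f hf => ?_⟩
  refine ext_openCover P hP (𝒰.pullback₁ f) fun i => ?_
  have e1 : P.map ((𝒰.pullback₁ f).f i).op (P.map f.op s) =
      P.map (pullback.snd f (𝒰.f i)).op (P.map (𝒰.f i).op s) := by
    change P.map (pullback.fst f (𝒰.f i)).op (P.map f.op s) = _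
    rw [← comp_apply, ← Functor.map_comp, ← op_comp, pullback.condition, op_comp, Functor.map_comp]
    rfl
  rw [e1, hs i, ht i _ (by rw [← pullback.condition]; exact S.downward_closed hf _)]
  have := (Presieve.compatible_iff_sieveCompatible x).1 hx f (pullback.fst f (𝒰.f i)) hf
  refine Eq.trans ?_ this
  congr 1
  exact pullback.condition.symm

end K389.AffineSheaf
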