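import Groth.Prelude.Def_DescFam

/-!
# Descent data relative to a family: calculus with transported points

* `tr D v x h`: the transport of a point `v` of `D.obj i` to a point of `D.obj j` over `x`.
* `mk'`, `homMk'`, `isoMk'`: constructors in terms of `tr`.
* `tr_pull_fst`, `tr_pull_snd`: transport in the pullback of a descent datum.
-/

set_option autoImplicit false
set_option backward.isDefEq.respectTransparency false
set_option backward.isDefEq.respectTransparency.types false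
open CategoryTheory CategoryTheory.Limits AlgebraicGeometry Opposite
universe w' w u
open _root_.Desc

namespace K389.Fam

variable {S : Scheme.{u}} {ι : Type w} {X : ι → Scheme.{u}} {f : ∀ i, X i ⟶ S}

/-- The transport of a point `v` of `D.obj i` to a point of `D.obj j` over `x`. -/
def tr (D : SchDDFam f) {T : Scheme.{u}} {i j : ι} (v : T ⟶ (D.obj i).left) (x : T ⟶ X j)
    (h : v ≫ (D.obj i).hom ≫ f i = x ≫ f j) : T ⟶ (D.obj j).left :=
  (D.φ (v ≫ (D.obj i).hom) x (by rw [Category.assoc, h]) ⟨v, rfl⟩).1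

section tr

variable (D : SchDDFam f) {T T' : Scheme.{u}} {i j k : ι}

@[reassoc]
theorem tr_hom (v : T ⟶ (D.obj i).left) (x : T ⟶ X j)
    (h : v ≫ (D.obj i).hom ≫ f i = x ≫ f j) : tr D v x h ≫ (D.obj j).hom = x :=
  (D.φ (v ≫ (D.obj i).hom) x (by rw [Category.assoc, h]) ⟨v, rfl⟩).2

theorem φ_val {x₀ : T ⟶ X i} {x₁ : T ⟶ X j} (h : x₀ ≫ f i = x₁ ≫ f j) (v : Lifts (D.obj i) x₀) :
    (D.φ x₀ x₁ h v).1 = tr D v.1 x₁ (by rw [← Category.assoc, v.2, h]) := by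
  obtain ⟨v, rfl⟩ := v
  rfl

theorem comp_tr (g : T' ⟶ T) (v : T ⟶ (D.obj i).left) (x : T ⟶ X j)
    (h : v ≫ (D.obj i).hom ≫ f i = x ≫ f j) :
    g ≫ tr D v x h = tr D (g ≫ v) (g ≫ x) (by rw [Category.assoc, h, Category.assoc]) :=
  (D.φ_natural g (v ≫ (D.obj i).hom) x (by rw [Category.assoc, h]) ((g ≫ v) ≫ (D.obj i).hom) (g ≫ x)
    (Category.assoc _ _ _).symm rfl _ ⟨v, rfl⟩ ⟨g ≫ v, rfl⟩ rfl).symm

theorem tr_self (v : T ⟶ (D.obj i).left) : tr D v (v ≫ (D.obj i).hom) (by simp) = v :=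
  congrArg Subtype.val (D.φ_self (v ≫ (D.obj i).hom) ⟨v, rfl⟩)

theorem tr_self' (v : T ⟶ (D.obj i).left) (x : T ⟶ X i) (hx : v ≫ (D.obj i).hom = x)
    (h : v ≫ (D.obj i).hom ≫ f i = x ≫ f i) : tr D v x h = v := by
  subst hx
  exact tr_self D v

theorem tr_tr (v : T ⟶ (D.obj i).left) (x : T ⟶ X j)
    (h : v ≫ (D.obj i).hom ≫ f i = x ≫ f j) (y : T ⟶ X k)
    (h' : tr D v x h ≫ (D.obj j).hom ≫ f j = y ≫ f k) :
    tr D (tr D v x h) y h' = tr D v y (by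
      rw [← h', ← Category.assoc, ← Category.assoc, tr_hom, Category.assoc, h]) := by
  have h'' : x ≫ f j = y ≫ f k := by rw [← h', ← Category.assoc, tr_hom]
  have := congrArg Subtype.val (D.φ_comp (v ≫ (D.obj i).hom) x y (by rw [Category.assoc, h]) h'' ⟨v, rfl⟩)
  rw [φ_val] at this
  exact this

theorem tr_cancel (v : T ⟶ (D.obj i).left) (x : T ⟶ X j)
    (h : v ≫ (D.obj i).hom ≫ f i = x ≫ f j) (y : T ⟶ X i) (hy : v ≫ (D.obj i).hom = y)
    (h' : tr D v x h ≫ (D.obj j).hom ≫ f j = y ≫ f i) :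
    tr D (tr D v x h) y h' = v := by
  rw [tr_tr]
  exact tr_self' D v y hy _

theorem tr_injective {v v' : T ⟶ (D.obj i).left} (hv : v ≫ (D.obj i).hom = v' ≫ (D.obj i).hom)
    {x x' : T ⟶ X j} (hx : x = x')
    (h : v ≫ (D.obj i).hom ≫ f i = x ≫ f j) (h' : v' ≫ (D.obj i).hom ≫ f i = x' ≫ f j)
    (e : tr D v x h = tr D v' x' h') : v = v' := by
  subst hx
  have h1 : ∀ (u : T ⟶ (D.obj i).left) (hu : u ≫ (D.obj i).hom = v ≫ (D.obj i).hom)
      (h : u ≫ (D.obj i).hom ≫ f i = x ≫ f j), tr D (tr D u x h) (v ≫ (D.obj i).hom) (by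
        rw [← Category.assoc, tr_hom, ← h, ← hu, Category.assoc]) = u := fun u hu h =>
    tr_cancel D u x h _ hu _
  rw [← h1 v rfl h, ← h1 v' hv.symm h']
  congr 1

theorem tr_congr {v v' : T ⟶ (D.obj i).left} (hv : v = v') {x x' : T ⟶ X j} (hx : x = x')
    (h : v ≫ (D.obj i).hom ≫ f i = x ≫ f j) :
    tr D v x h = tr D v' x' (by rw [← hv, ← hx, h]) := by
  subst hv; subst hx; rfl

end tr

/-- Constructor for descent data in terms of transported points. -/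
def mk' (obj : ∀ i, Over (X i))
    (t : ∀ ⦃T : Scheme.{u}⦄ ⦃i j : ι⦄ (v : T ⟶ (obj i).left) (x : T ⟶ X j),
      v ≫ (obj i).hom ≫ f i = x ≫ f j → (T ⟶ (obj j).left))
    (t_hom : ∀ ⦃T : Scheme.{u}⦄ ⦃i j : ι⦄ (v : T ⟶ (obj i).left) (x : T ⟶ X j)
      (h : v ≫ (obj i).hom ≫ f i = x ≫ f j), t v x h ≫ (obj j).hom = x)
    (comp_t : ∀ ⦃T T' : Scheme.{u}⦄ (g : T' ⟶ T) ⦃i j : ι⦄ (v : T ⟶ (obj i).left) (x : T ⟶ X j)
      (h : v ≫ (obj i).hom ≫ f i = x ≫ f j) (h' : (g ≫ v) ≫ (obj i).hom ≫ f i = (g ≫ x) ≫ f j),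
      g ≫ t v x h = t (g ≫ v) (g ≫ x) h')
    (t_self : ∀ ⦃T : Scheme.{u}⦄ ⦃i : ι⦄ (v : T ⟶ (obj i).left)
      (h : v ≫ (obj i).hom ≫ f i = (v ≫ (obj i).hom) ≫ f i), t v (v ≫ (obj i).hom) h = v)
    (t_t : ∀ ⦃T : Scheme.{u}⦄ ⦃i j k : ι⦄ (v : T ⟶ (obj i).left) (x : T ⟶ X j) (y : T ⟶ X k)
      (h : v ≫ (obj i).hom ≫ f i = x ≫ f j) (h' : t v x h ≫ (obj j).hom ≫ f j = y ≫ f k)
      (h'' : v ≫ (obj i).hom ≫ f i = y ≫ f k), t (t v x h) y h' = t v y h'') :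
    SchDDFam f where
  obj := obj
  φ T i j x₀ x₁ h :=
    { toFun := fun v => ⟨t v.1 x₁ (by rw [← Category.assoc, v.2, h]), t_hom _ _ _⟩
      invFun := fun v => ⟨t v.1 x₀ (by rw [← Category.assoc, v.2, h]), t_hom _ _ _⟩
      left_inv := by
        rintro ⟨v, rfl⟩
        apply Subtype.ext
        have h1 : v ≫ (obj i).hom ≫ f i = x₁ ≫ f j := by rw [← Category.assoc, h]
        exact (t_t v x₁ (v ≫ (obj i).hom) h1 (by rw [← Category.assoc, t_hom, h]) (by simp)).trans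
          (t_self v _)
      right_inv := by
        rintro ⟨v, rfl⟩
        apply Subtype.ext
        have h1 : v ≫ (obj j).hom ≫ f j = x₀ ≫ f i := by rw [← Category.assoc, h]
        exact (t_t v x₀ (v ≫ (obj j).hom) h1 (by rw [← Category.assoc, t_hom, h]) (by simp)).trans
          (t_self v _) }
  φ_natural T T' g i j x₀ x₁ h y₀ y₁ h₀ h₁ h' v v' hv := by
    subst h₁
    obtain ⟨v, rfl⟩ := v
    obtain ⟨v', rfl⟩ := v'
    dsimp only at hv
    subst hv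
    exact (comp_t g v x₁ (by rw [← Category.assoc, h]) _).symm
  φ_self T i x v := by
    obtain ⟨v, rfl⟩ := v
    apply Subtype.ext
    exact t_self v _
  φ_comp T i j k x₀ x₁ x₂ h₀₁ h₁₂ v := by
    apply Subtype.ext
    exact t_t v.1 x₁ x₂ _ _ _

@[simp] theorem mk'_obj (obj : ∀ i, Over (X i))
    (t : ∀ ⦃T : Scheme.{u}⦄ ⦃i j : ι⦄ (v : T ⟶ (obj i).left) (x : T ⟶ X j),
      v ≫ (obj i).hom ≫ f i = x ≫ f j → (T ⟶ (obj j).left))
    (t_hom) (comp_t) (t_self) (t_t) :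
    (mk' (f := f) obj t t_hom comp_t t_self t_t).obj = obj := rfl

theorem tr_mk' (obj : ∀ i, Over (X i))
    (t : ∀ ⦃T : Scheme.{u}⦄ ⦃i j : ι⦄ (v : T ⟶ (obj i).left) (x : T ⟶ X j),
      v ≫ (obj i).hom ≫ f i = x ≫ f j → (T ⟶ (obj j).left))
    (t_hom) (comp_t) (t_self) (t_t) ⦃T : Scheme.{u}⦄ ⦃i j : ι⦄ (v : T ⟶ (obj i).left) (x : T ⟶ X j)
      (h : v ≫ (obj i).hom ≫ f i = x ≫ f j) :
    tr (mk' (f := f) obj t t_hom comp_t t_self t_t) v x h = t v x h := rfl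

section hom

variable {D D' : SchDDFam f}

theorem comm' (a : D ⟶ D') {T : Scheme.{u}} {i j : ι} (v : T ⟶ (D.obj i).left) (x : T ⟶ X j)
    (h : v ≫ (D.obj i).hom ≫ f i = x ≫ f j)
    (h' : (v ≫ (a.hom i).left) ≫ (D'.obj i).hom ≫ f i = x ≫ f j) :
    tr D' (v ≫ (a.hom i).left) x h' = tr D v x h ≫ (a.hom j).left := by
  have := a.comm (v ≫ (D.obj i).hom) x (by rw [Category.assoc, h]) ⟨v, rfl⟩
    ⟨v ≫ (a.hom i).left, by rw [Category.assoc, Over.w]⟩ rfl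
  rw [φ_val, φ_val] at this
  exact this

/-- Constructor for morphisms of descent data. -/
def homMk' (a : ∀ i, D.obj i ⟶ D'.obj i)
    (H : ∀ ⦃T : Scheme.{u}⦄ ⦃i j : ι⦄ (v : T ⟶ (D.obj i).left) (x : T ⟶ X j)
      (h : v ≫ (D.obj i).hom ≫ f i = x ≫ f j)
      (h' : (v ≫ (a i).left) ≫ (D'.obj i).hom ≫ f i = x ≫ f j),
      tr D' (v ≫ (a i).left) x h' = tr D v x h ≫ (a j).left) : D ⟶ D' where
  hom := a
  comm T i j x₀ x₁ h v w hw := by
    obtain ⟨w, hw'⟩ := w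
    dsimp only at hw
    subst hw
    rw [φ_val, φ_val]
    exact H _ _ _ _

@[simp] theorem homMk'_hom (a : ∀ i, D.obj i ⟶ D'.obj i) (H) : (homMk' a H).hom = a := rfl

theorem hom_ext' {a b : D ⟶ D'} (h : ∀ i, (a.hom i).left = (b.hom i).left) : a = b := by
  apply SchDDFam.hom_ext
  funext i
  ext
  exact h i

/-- Constructor for isomorphisms of descent data. -/
def isoMk' (e : ∀ i, D.obj i ≅ D'.obj i)
    (H : ∀ ⦃T : Scheme.{u}⦄ ⦃i j : ι⦄ (v : T ⟶ (D.obj i).left) (x : T ⟶ X j)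
      (h : v ≫ (D.obj i).hom ≫ f i = x ≫ f j)
      (h' : (v ≫ (e i).hom.left) ≫ (D'.obj i).hom ≫ f i = x ≫ f j),
      tr D' (v ≫ (e i).hom.left) x h' = tr D v x h ≫ (e j).hom.left) : D ≅ D' where
  hom := homMk' (fun i => (e i).hom) H
  inv := homMk' (fun i => (e i).inv) fun T i j v x h h' => by
    have h1 : (v ≫ (e i).inv.left) ≫ (e i).hom.left = v := by
      rw [Category.assoc, ← Over.comp_left, (e i).inv_hom_id, Over.id_left, Category.comp_id]
    have h2 := H (v ≫ (e i).inv.left) x h' (by rw [h1]; exact h)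
    rw [tr_congr D' h1 rfl] at h2
    rw [h2, Category.assoc, ← Over.comp_left, (e j).hom_inv_id, Over.id_left, Category.comp_id]
  hom_inv_id := hom_ext' fun i => by
    change (e i).hom.left ≫ (e i).inv.left = 𝟙 _
    rw [← Over.comp_left, (e i).hom_inv_id, Over.id_left]
  inv_hom_id := hom_ext' fun i => by
    change (e i).inv.left ≫ (e i).hom.left = 𝟙 _
    rw [← Over.comp_left, (e i).inv_hom_id, Over.id_left]

end hom

section pull

variable {S' : Scheme.{u}} {ι' : Type w'} {X' : ι' → Scheme.{u}} {f' : ∀ j, X' j ⟶ S'}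
  {α : ι' → ι} {p : S' ⟶ S} {p' : ∀ j, X' j ⟶ X (α j)} (w : ∀ j, p' j ≫ f (α j) = f' j ≫ p)

theorem pull_obj (D : SchDDFam f) (j : ι') :
    ((pullDDFam w).obj D).obj j = Over.mk (pullback.snd (D.obj (α j)).hom (p' j)) := rfl

theorem pull_map_hom_left {D D' : SchDDFam f} (a : D ⟶ D') (j : ι') :
    (((pullDDFam w).map a).hom j).left = pullback.map (D.obj (α j)).hom (p' j) (D'.obj (α j)).hom
      (p' j) (a.hom (α j)).left (𝟙 _) (𝟙 _) (by simp [Over.w]) (by simp) := rfl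

include w in
theorem pull_aux (D : SchDDFam f) {T : Scheme.{u}} {j k : ι'}
    (v : T ⟶ (((pullDDFam w).obj D).obj j).left) (x : T ⟶ X' k)
    (h : v ≫ (((pullDDFam w).obj D).obj j).hom ≫ f' j = x ≫ f' k) :
    (v ≫ pullback.fst (D.obj (α j)).hom (p' j)) ≫ (D.obj (α j)).hom ≫ f (α j) =
      (x ≫ p' k) ≫ f (α k) := by
  have h' : v ≫ pullback.snd (D.obj (α j)).hom (p' j) ≫ f' j = x ≫ f' k := h
  rw [Category.assoc, pullback.condition_assoc, w, Category.assoc, w, ← Category.assoc x, ← h',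
    Category.assoc, Category.assoc]

theorem tr_pull (D : SchDDFam f) {T : Scheme.{u}} {j k : ι'}
    (v : T ⟶ (((pullDDFam w).obj D).obj j).left) (x : T ⟶ X' k)
    (h : v ≫ (((pullDDFam w).obj D).obj j).hom ≫ f' j = x ≫ f' k) :
    tr ((pullDDFam w).obj D) v x h = pullback.lift (tr D (v ≫ pullback.fst (D.obj (α j)).hom (p' j))
      (x ≫ p' k) (pull_aux w D v x h)) x (tr_hom _ _ _ _) := by
  change pullback.lift (D.φ _ _ _ _).1 x _ = _
  congr 1
  rw [φ_val]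
  rfl

theorem tr_pull_fst (D : SchDDFam f) {T : Scheme.{u}} {j k : ι'}
    (v : T ⟶ (((pullDDFam w).obj D).obj j).left) (x : T ⟶ X' k)
    (h : v ≫ (((pullDDFam w).obj D).obj j).hom ≫ f' j = x ≫ f' k) :
    tr ((pullDDFam w).obj D) v x h ≫ pullback.fst (D.obj (α k)).hom (p' k) =
      tr D (v ≫ pullback.fst (D.obj (α j)).hom (p' j)) (x ≫ p' k) (pull_aux w D v x h) := by
  rw [tr_pull]
  exact pullback.lift_fst _ _ _

theorem tr_pull_snd (D : SchDDFam f) {T : Scheme.{u}} {j k : ι'}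
    (v : T ⟶ (((pullDDFam w).obj D).obj j).left) (x : T ⟶ X' k)
    (h : v ≫ (((pullDDFam w).obj D).obj j).hom ≫ f' j = x ≫ f' k) :
    tr ((pullDDFam w).obj D) v x h ≫ pullback.snd (D.obj (α k)).hom (p' k) = x := by
  rw [tr_pull]
  exact pullback.lift_snd _ _ _

end pull

end K389.Fam
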