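import Groth.Agent.Desc.K389.FamBasic
import Mathlib.CategoryTheory.Sites.IsSheafFor

/-!
# Pullback of descent data along a refinement: faithful and full

Let `u i : U i ⟶ S`, `v j : V j ⟶ S` and `g i : U i ⟶ V (α i)` over `S`.
* `faithful`: if the sieve of `u` pulled back to any scheme over any `V j` is separating for representables,
  then `pullDDFam` is faithful.
* `full`: if that sieve satisfies the sheaf condition for representables, then `pullDDFam` is full.
-/

set_option autoImplicit false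
set_option backward.isDefEq.respectTransparency false
set_option backward.isDefEq.respectTransparency.types false
open CategoryTheory CategoryTheory.Limits AlgebraicGeometry Opposite
universe w' w u
open _root_.Desc

namespace K389.Fam

variable {S : Scheme.{u}} {ι : Type w'} {κ : Type w} {U : ι → Scheme.{u}} {V : κ → Scheme.{u}}
  {a : ∀ i, U i ⟶ S} {b : ∀ j, V j ⟶ S} {α : ι → κ} {g : ∀ i, U i ⟶ V (α i)}
  (w : ∀ i, g i ≫ b (α i) = a i ≫ 𝟙 S)

theorem exists_of_mem {T : Scheme.{u}} {t : T ⟶ S} (h : Sieve.ofArrows U a t) :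
    ∃ (i : ι) (x : T ⟶ U i), x ≫ a i = t := by
  obtain ⟨_, x, _, ⟨i⟩, hx⟩ := h
  exact ⟨i, x, hx⟩

theorem mem_ofArrows {T : Scheme.{u}} {t : T ⟶ S} (i : ι) (x : T ⟶ U i) (h : x ≫ a i = t) :
    Sieve.ofArrows U a t := ⟨_, x, _, ⟨i⟩, h⟩

include w in
theorem xg {T : Scheme.{u}} {i : ι} (x : T ⟶ U i) : (x ≫ g i) ≫ b (α i) = x ≫ a i := by
  rw [Category.assoc, w, Category.comp_id]

section

variable {D D' : SchDDFam b}

/-- The point of the pullback given by a point of `D` and a lift `x` to `U i`. -/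
noncomputable def lf {T : Scheme.{u}} {j : κ} (y : T ⟶ (D.obj j).left) (i : ι) (x : T ⟶ U i)
    (hx : y ≫ (D.obj j).hom ≫ b j = x ≫ a i) : T ⟶ pullback (D.obj (α i)).hom (g i) :=
  pullback.lift (tr D y (x ≫ g i) (hx.trans (xg w x).symm)) x (tr_hom _ _ _ _)

@[reassoc]
theorem lf_fst {T : Scheme.{u}} {j : κ} (y : T ⟶ (D.obj j).left) (i : ι) (x : T ⟶ U i)
    (hx : y ≫ (D.obj j).hom ≫ b j = x ≫ a i) :
    lf w y i x hx ≫ pullback.fst (D.obj (α i)).hom (g i) =
      tr D y (x ≫ g i) (hx.trans (xg w x).symm) := pullback.lift_fst _ _ _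

@[reassoc]
theorem lf_snd {T : Scheme.{u}} {j : κ} (y : T ⟶ (D.obj j).left) (i : ι) (x : T ⟶ U i)
    (hx : y ≫ (D.obj j).hom ≫ b j = x ≫ a i) :
    lf w y i x hx ≫ pullback.snd (D.obj (α i)).hom (g i) = x := pullback.lift_snd _ _ _

theorem comp_lf {T T' : Scheme.{u}} (h : T' ⟶ T) {j : κ} (y : T ⟶ (D.obj j).left) (i : ι)
    (x : T ⟶ U i) (hx : y ≫ (D.obj j).hom ≫ b j = x ≫ a i)
    (hx' : (h ≫ y) ≫ (D.obj j).hom ≫ b j = (h ≫ x) ≫ a i) :
    h ≫ lf w y i x hx = lf w (h ≫ y) i (h ≫ x) hx' := by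
  apply pullback.hom_ext
  · rw [Category.assoc, lf_fst, lf_fst, comp_tr]
    exact tr_congr D rfl (Category.assoc _ _ _).symm _
  · rw [Category.assoc, lf_snd, lf_snd]

end

include w in
theorem faithful (hsep : ∀ (j : κ) {T : Scheme.{u}} (t : T ⟶ V j) (Z : Scheme.{u}),
      Presieve.IsSeparatedFor (yoneda.obj Z) ((Sieve.ofArrows U a).pullback (t ≫ b j)).arrows) :
    (pullDDFam w).Faithful where
  map_injective {D D'} c d hcd := by
    apply hom_ext'
    intro j
    refine (hsep j (D.obj j).hom (D'.obj j).left).ext fun W y hy => ?_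
    change y ≫ (c.hom j).left = y ≫ (d.hom j).left
    obtain ⟨i, x, hx⟩ := exists_of_mem hy
    have h2 : tr D y (x ≫ g i) (hx.symm.trans (xg w x).symm) ≫ (c.hom (α i)).left =
        tr D y (x ≫ g i) (hx.symm.trans (xg w x).symm) ≫ (d.hom (α i)).left := by
      have h3 := congrArg (fun e => lf w y i x hx.symm ≫
        (e.hom i).left ≫ pullback.fst (D'.obj (α i)).hom (g i)) hcd
      rw [pull_map_hom_left, pull_map_hom_left, pullback.lift_fst, pullback.lift_fst,
        lf_fst_assoc, lf_fst_assoc] at h3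
      exact h3
    rw [← comm' c, ← comm' d] at h2
    · exact tr_injective D' (by rw [Category.assoc, Category.assoc, Over.w, Over.w]) rfl _ _ h2
    · rw [Category.assoc, Over.w_assoc]; exact hx.symm.trans (xg w x).symm
    · rw [Category.assoc, Over.w_assoc]; exact hx.symm.trans (xg w x).symm

section full

variable {D D' : SchDDFam b} (c : (pullDDFam w).obj D ⟶ (pullDDFam w).obj D')

/-- The underlying morphism of schemes. -/
noncomputable def cl (i : ι) : pullback (D.obj (α i)).hom (g i) ⟶ pullback (D'.obj (α i)).hom (g i) :=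
  (c.hom i).left

@[reassoc]
theorem cl_snd (i : ι) : cl w c i ≫ pullback.snd (D'.obj (α i)).hom (g i) =
        pullback.snd (D.obj (α i)).hom (g i) := Over.w (c.hom i)

theorem lf_cl_hom {T : Scheme.{u}} {j : κ} (y : T ⟶ (D.obj j).left) (i : ι) (x : T ⟶ U i)
    (hx : y ≫ (D.obj j).hom ≫ b j = x ≫ a i) :
    (lf w y i x hx ≫ cl w c i ≫ pullback.fst (D'.obj (α i)).hom (g i)) ≫ (D'.obj (α i)).hom =
      x ≫ g i := by
  rw [Category.assoc, Category.assoc, pullback.condition, cl_snd_assoc, lf_snd_assoc]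

theorem fval_aux {T : Scheme.{u}} {j : κ} (y : T ⟶ (D.obj j).left) (i : ι) (x : T ⟶ U i)
    (hx : y ≫ (D.obj j).hom ≫ b j = x ≫ a i) :
    (lf w y i x hx ≫ cl w c i ≫ pullback.fst (D'.obj (α i)).hom (g i)) ≫
      (D'.obj (α i)).hom ≫ b (α i) = (y ≫ (D.obj j).hom) ≫ b j := by
  rw [← Category.assoc _ (D'.obj (α i)).hom, lf_cl_hom, xg w x, ← hx, Category.assoc]

/-- The image of a point of `D` which admits a lift `x` to `U i`. -/
noncomputable def fval {T : Scheme.{u}} {j : κ} (y : T ⟶ (D.obj j).left) (i : ι) (x : T ⟶ U i)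
    (hx : y ≫ (D.obj j).hom ≫ b j = x ≫ a i) : T ⟶ (D'.obj j).left :=
  tr D' (lf w y i x hx ≫ cl w c i ≫ pullback.fst (D'.obj (α i)).hom (g i)) (y ≫ (D.obj j).hom)
    (fval_aux w c y i x hx)

theorem fval_hom {T : Scheme.{u}} {j : κ} (y : T ⟶ (D.obj j).left) (i : ι) (x : T ⟶ U i)
    (hx : y ≫ (D.obj j).hom ≫ b j = x ≫ a i) :
    fval w c y i x hx ≫ (D'.obj j).hom = y ≫ (D.obj j).hom := tr_hom _ _ _ _

theorem fval_congr {T : Scheme.{u}} {j : κ} {y y' : T ⟶ (D.obj j).left} (hy : y = y') (i : ι)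
    {x x' : T ⟶ U i} (hxx : x = x')
    (hx : y ≫ (D.obj j).hom ≫ b j = x ≫ a i) (hx' : y' ≫ (D.obj j).hom ≫ b j = x' ≫ a i) :
    fval w c y i x hx = fval w c y' i x' hx' := by
  subst hy; subst hxx; rfl

theorem comp_fval {T T' : Scheme.{u}} (h : T' ⟶ T) {j : κ} (y : T ⟶ (D.obj j).left) (i : ι)
    (x : T ⟶ U i) (hx : y ≫ (D.obj j).hom ≫ b j = x ≫ a i)
    (hx' : (h ≫ y) ≫ (D.obj j).hom ≫ b j = (h ≫ x) ≫ a i) :
    h ≫ fval w c y i x hx = fval w c (h ≫ y) i (h ≫ x) hx' := by
  rw [fval, comp_tr]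
  exact tr_congr D' (by rw [← Category.assoc, comp_lf]) (Category.assoc _ _ _).symm _

/-- The basic compatibility: `fval` is compatible with transport. -/
theorem tr_fval {T : Scheme.{u}} {j k : κ} (y : T ⟶ (D.obj j).left) (i : ι) (x : T ⟶ U i)
    (hx : y ≫ (D.obj j).hom ≫ b j = x ≫ a i) (z : T ⟶ V k)
    (hz : y ≫ (D.obj j).hom ≫ b j = z ≫ b k)
    (hz' : fval w c y i x hx ≫ (D'.obj j).hom ≫ b j = z ≫ b k)
    (hx' : tr D y z hz ≫ (D.obj k).hom ≫ b k = x ≫ a i) :
    tr D' (fval w c y i x hx) z hz' = fval w c (tr D y z hz) i x hx' := by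
  have h1 : lf w y i x hx = lf w (tr D y z hz) i x hx' := by
    apply pullback.hom_ext
    · rw [lf_fst, lf_fst, tr_tr]
    · rw [lf_snd, lf_snd]
  have h2 := tr_tr D' (lf w y i x hx ≫ cl w c i ≫ pullback.fst (D'.obj (α i)).hom (g i))
    (y ≫ (D.obj j).hom) (fval_aux w c y i x hx) z hz'
  refine h2.trans ?_
  exact tr_congr D' (by rw [h1]) (tr_hom _ _ _ _).symm _

/-- Independence of the lift. -/
theorem fval_eq {T : Scheme.{u}} {j : κ} (y : T ⟶ (D.obj j).left) (i : ι) (x : T ⟶ U i)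
    (hx : y ≫ (D.obj j).hom ≫ b j = x ≫ a i) (i' : ι) (x' : T ⟶ U i')
    (hx' : y ≫ (D.obj j).hom ≫ b j = x' ≫ a i') :
    fval w c y i x hx = fval w c y i' x' hx' := by
  have hp : lf w y i x hx ≫ (((pullDDFam w).obj D).obj i).hom = x := lf_snd w y i x hx
  have hpa : lf w y i x hx ≫ (((pullDDFam w).obj D).obj i).hom ≫ a i = x' ≫ a i' := by
    rw [← Category.assoc, hp, ← hx, hx']
  have hpa' : (lf w y i x hx ≫ (c.hom i).left) ≫ (((pullDDFam w).obj D').obj i).hom ≫ a i =
      x' ≫ a i' := by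
    rw [← hpa, ← Over.w (c.hom i)]
    simp only [Category.assoc]
  have h1 := comm' c (lf w y i x hx) x' hpa hpa'
  have h2 : tr ((pullDDFam w).obj D') (lf w y i x hx ≫ (c.hom i).left) x' hpa' ≫
      pullback.fst (D'.obj (α i')).hom (g i') =
    tr ((pullDDFam w).obj D) (lf w y i x hx) x' hpa ≫ cl w c i' ≫
      pullback.fst (D'.obj (α i')).hom (g i') := by
    rw [h1, Category.assoc]
    rfl
  rw [tr_pull_fst w D' (lf w y i x hx ≫ (c.hom i).left) x' hpa'] at h2
  have h3 : tr ((pullDDFam w).obj D) (lf w y i x hx) x' hpa = lf w y i' x' hx' := by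
    apply pullback.hom_ext
    · refine (tr_pull_fst w D (lf w y i x hx) x' hpa).trans ?_
      refine (tr_congr D (lf_fst w y i x hx) rfl _).trans ?_
      rw [tr_tr]
      exact (lf_fst w y i' x' hx').symm
    · exact (tr_pull_snd w D (lf w y i x hx) x' hpa).trans (lf_snd w y i' x' hx').symm
  rw [h3] at h2
  have h5 : ∀ (q : T ⟶ (D'.obj (α i')).left) (hq : q = lf w y i' x' hx' ≫ cl w c i' ≫
      pullback.fst (D'.obj (α i')).hom (g i')) (e : _),
      fval w c y i' x' hx' = tr D' q (y ≫ (D.obj j).hom) e := by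
    intro q hq e
    subst hq
    rfl
  rw [h5 _ h2 (by rw [h2]; exact fval_aux w c y i' x' hx'), tr_tr]
  exact tr_congr D' (Category.assoc _ _ _).symm rfl _

/-- The value at a point lying over `U i` through `g i`. -/
theorem fval_self {T : Scheme.{u}} (i : ι) (p : T ⟶ pullback (D.obj (α i)).hom (g i))
    (hx : (p ≫ pullback.fst (D.obj (α i)).hom (g i)) ≫ (D.obj (α i)).hom ≫ b (α i) =
      (p ≫ pullback.snd (D.obj (α i)).hom (g i)) ≫ a i) :
    fval w c (p ≫ pullback.fst (D.obj (α i)).hom (g i)) i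
      (p ≫ pullback.snd (D.obj (α i)).hom (g i)) hx =
      p ≫ cl w c i ≫ pullback.fst (D'.obj (α i)).hom (g i) := by
  have h1 : lf w (p ≫ pullback.fst (D.obj (α i)).hom (g i)) i
      (p ≫ pullback.snd (D.obj (α i)).hom (g i)) hx = p := by
    apply pullback.hom_ext
    · rw [lf_fst]
      exact tr_self' D _ _ (by rw [Category.assoc, Category.assoc, pullback.condition]) _
    · rw [lf_snd]
  have h2 := fval_aux w c _ i _ hx
  rw [h1] at h2
  have h3 : fval w c (p ≫ pullback.fst (D.obj (α i)).hom (g i)) i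
      (p ≫ pullback.snd (D.obj (α i)).hom (g i)) hx = tr D' (p ≫ cl w c i ≫
      pullback.fst (D'.obj (α i)).hom (g i)) ((p ≫ pullback.fst (D.obj (α i)).hom (g i)) ≫
        (D.obj (α i)).hom) h2 := tr_congr D' (by rw [h1]) rfl _
  rw [h3]
  refine tr_self' D' _ _ ?_ _
  rw [Category.assoc, Category.assoc, pullback.condition, cl_snd_assoc,
    Category.assoc, pullback.condition]

/-- The family of elements defining the descended morphism. -/
noncomputable def ffam (j : κ) : Presieve.FamilyOfElements (yoneda.obj (D'.obj j).left)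
    ((Sieve.ofArrows U a).pullback ((D.obj j).hom ≫ b j)).arrows := fun _ y hy =>
  fval w c y (exists_of_mem hy).choose (exists_of_mem hy).choose_spec.choose
    (exists_of_mem hy).choose_spec.choose_spec.symm

theorem ffam_eq (j : κ) {T : Scheme.{u}} (y : T ⟶ (D.obj j).left)
    (hy : ((Sieve.ofArrows U a).pullback ((D.obj j).hom ≫ b j)).arrows y) (i : ι) (x : T ⟶ U i)
    (hx : y ≫ (D.obj j).hom ≫ b j = x ≫ a i) : ffam w c j y hy = fval w c y i x hx :=
  fval_eq w c _ _ _ _ _ _ _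

theorem ffam_compatible (j : κ) : (ffam w c j).Compatible := by
  rw [Presieve.compatible_iff_sieveCompatible]
  intro T T' y h hy
  obtain ⟨i, x, hx⟩ := exists_of_mem hy
  rw [ffam_eq w c j y hy i x hx.symm, ffam_eq w c j (h ≫ y) _ i (h ≫ x) (by
    rw [Category.assoc, Category.assoc]
    exact congrArg _ hx.symm)]
  exact (comp_fval w c h y i x hx.symm _).symm

variable (hsh : ∀ (j : κ) {T : Scheme.{u}} (t : T ⟶ V j) (Z : Scheme.{u}),
      Presieve.IsSheafFor (yoneda.obj Z) ((Sieve.ofArrows U a).pullback (t ≫ b j)).arrows)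

/-- The descended morphism on underlying schemes. -/
noncomputable def fhom (j : κ) : (D.obj j).left ⟶ (D'.obj j).left :=
  (hsh j (D.obj j).hom (D'.obj j).left).amalgamate (ffam w c j) (ffam_compatible w c j)

theorem comp_fhom {T : Scheme.{u}} (j : κ) (y : T ⟶ (D.obj j).left) (i : ι) (x : T ⟶ U i)
    (hx : y ≫ (D.obj j).hom ≫ b j = x ≫ a i) : y ≫ fhom w c hsh j = fval w c y i x hx := by
  have hy : ((Sieve.ofArrows U a).pullback ((D.obj j).hom ≫ b j)).arrows y :=
    mem_ofArrows i x hx.symm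
  have := (hsh j (D.obj j).hom (D'.obj j).left).valid_glue (ffam_compatible w c j) y hy
  exact this.trans (ffam_eq w c j y hy i x hx)

theorem fhom_hom (j : κ) : fhom w c hsh j ≫ (D'.obj j).hom = (D.obj j).hom := by
  refine (hsh j (D.obj j).hom (V j)).isSeparatedFor.ext fun T y hy => ?_
  change y ≫ fhom w c hsh j ≫ (D'.obj j).hom = y ≫ (D.obj j).hom
  obtain ⟨i, x, hx⟩ := exists_of_mem hy
  rw [← Category.assoc, comp_fhom w c hsh j y i x hx.symm, fval_hom]

end full

variable (hsh : ∀ (j : κ) {T : Scheme.{u}} (t : T ⟶ V j) (Z : Scheme.{u}),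
      Presieve.IsSheafFor (yoneda.obj Z) ((Sieve.ofArrows U a).pullback (t ≫ b j)).arrows)

include hsh in
theorem full : (pullDDFam w).Full where
  map_surjective {D D'} c := by
    refine ⟨homMk' (fun j => Over.homMk (fhom w c hsh j) (fhom_hom w c hsh j)) ?_, ?_⟩
    · intro T j k v x h h'
      change tr D' (v ≫ fhom w c hsh j) x h' = tr D v x h ≫ fhom w c hsh k
      refine (hsh k x (D'.obj k).left).isSeparatedFor.ext fun W y hy => ?_
      change y ≫ tr D' (v ≫ fhom w c hsh j) x h' = y ≫ tr D v x h ≫ fhom w c hsh k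
      obtain ⟨i, z, hz⟩ := exists_of_mem hy
      have h1 : (y ≫ v) ≫ (D.obj j).hom ≫ b j = z ≫ a i := by
        rw [Category.assoc, h, hz]
      have h2 : (y ≫ tr D v x h) ≫ (D.obj k).hom ≫ b k = z ≫ a i := by
        rw [Category.assoc, ← Category.assoc (tr D v x h), tr_hom, hz]
      have h3 : y ≫ v ≫ fhom w c hsh j = fval w c (y ≫ v) i z h1 :=
        (Category.assoc y v _).symm.trans (comp_fhom w c hsh j _ i z h1)
      have h4 : (y ≫ v) ≫ (D.obj j).hom ≫ b j = (y ≫ x) ≫ b k := by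
        rw [h1, hz, Category.assoc]
      have h5 := comp_tr D y v x h
      rw [← Category.assoc y (tr D v x h), comp_fhom w c hsh k _ i z h2, comp_tr,
        tr_congr D' h3 rfl, tr_fval w c (y ≫ v) i z h1 (y ≫ x) h4 _ (by rw [← h5]; exact h2)]
      exact fval_congr w c h5.symm i rfl _ _
    · apply hom_ext'
      intro i
      rw [pull_map_hom_left]
      change pullback.map (D.obj (α i)).hom (g i) (D'.obj (α i)).hom
        (g i) (fhom w c hsh (α i)) (𝟙 _) (𝟙 _) _ _ = cl w c i
      have h0 : pullback.fst (D.obj (α i)).hom (g i) ≫ (D.obj (α i)).hom ≫ b (α i) =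
          pullback.snd (D.obj (α i)).hom (g i) ≫ a i := by
        rw [pullback.condition_assoc, w, Category.comp_id]
      apply pullback.hom_ext
      · rw [pullback.lift_fst, comp_fhom w c hsh (α i) (pullback.fst (D.obj (α i)).hom (g i)) i
          (pullback.snd (D.obj (α i)).hom (g i)) h0]
        have h2 := fval_self w c i (𝟙 _) (by rw [Category.id_comp, Category.id_comp]; exact h0)
        refine Eq.trans ?_ (h2.trans (Category.id_comp _))
        exact fval_congr w c (Category.id_comp _).symm i (Category.id_comp _).symm _ _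
      · rw [pullback.lift_snd, Category.comp_id, cl_snd]

end K389.Fam
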