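import Groth.Agent.Desc.K389.FamFF
import Mathlib.AlgebraicGeometry.Sites.Fpqc

/-!
# Full faithfulness of pullback of descent data for fpqc refinements

* `full_of_mem`, `faithful_of_mem`: if the sieve of `u` pulled back to each `V j` is a covering sieve for the
  fpqc topology then `pullDDFam` is full and faithful.
* `mem_of_local`: this holds when for each `j` the `g i` with `α i = j` form an fpqc covering of `V j`.
-/

set_option autoImplicit false
set_option backward.isDefEq.respectTransparency false
set_option backward.isDefEq.respectTransparency.types false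
open CategoryTheory CategoryTheory.Limits AlgebraicGeometry Opposite
universe w' w u
open _root_.Desc

namespace K389.Fam

variable {S : Scheme.{u}} {ι : Type w'} {κ : Type w} {U : ι → Scheme.{u}} {V : κ → Scheme.{u}}
  {a : ∀ i, U i ⟶ S} {b : ∀ j, V j ⟶ S} {α : ι → κ} {g : ∀ i, U i ⟶ V (α i)}
  (w : ∀ i, g i ≫ b (α i) = a i ≫ 𝟙 S)

theorem isSheafFor_of_mem {T : Scheme.{u}} {R : Sieve T} (hR : R ∈ Scheme.fpqcTopology T)
    (Z : Scheme.{u}) : Presieve.IsSheafFor (yoneda.obj Z) R.arrows :=
  GrothendieckTopology.Subcanonical.isSheaf_of_isRepresentable (J := Scheme.fpqcTopology)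
    (yoneda.obj Z) R hR

theorem sheafFor_pullback_of_mem
    (h : ∀ j, (Sieve.ofArrows U a).pullback (b j) ∈ Scheme.fpqcTopology (V j)) (j : κ)
    {T : Scheme.{u}} (t : T ⟶ V j) (Z : Scheme.{u}) :
    Presieve.IsSheafFor (yoneda.obj Z) ((Sieve.ofArrows U a).pullback (t ≫ b j)).arrows := by
  rw [Sieve.pullback_comp]
  exact isSheafFor_of_mem (Scheme.fpqcTopology.pullback_stable t (h j)) Z

include w in
theorem full_of_mem (h : ∀ j, (Sieve.ofArrows U a).pullback (b j) ∈ Scheme.fpqcTopology (V j)) :
    (pullDDFam w).Full :=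
  full w fun j _ t Z => sheafFor_pullback_of_mem h j t Z

include w in
theorem faithful_of_mem (h : ∀ j, (Sieve.ofArrows U a).pullback (b j) ∈ Scheme.fpqcTopology (V j)) :
    (pullDDFam w).Faithful :=
  faithful w fun j _ t Z => (sheafFor_pullback_of_mem h j t Z).isSeparatedFor

/-- A family which covers the base is covering after pullback. -/
theorem mem_of_base (h : Presieve.ofArrows U a ∈ Scheme.fpqcPrecoverage S) (j : κ) :
    (Sieve.ofArrows U a).pullback (b j) ∈ Scheme.fpqcTopology (V j) :=
  Scheme.fpqcTopology.pullback_stable _ (Precoverage.generate_mem_toGrothendieck h)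

include w in
/-- The condition for a refinement covering each member. -/
theorem mem_of_local {K : Precoverage Scheme.{u}} (j : κ)
    (h : Presieve.ofArrows (fun i : {i // α i = j} => U i.1)
      (fun i => g i.1 ≫ eqToHom (congrArg V i.2)) ∈ K (V j)) :
    (Sieve.ofArrows U a).pullback (b j) ∈ K.toGrothendieck (V j) := by
  refine GrothendieckTopology.superset_covering _ ?_ (Precoverage.generate_mem_toGrothendieck h)
  rw [Sieve.generate_le_iff]
  rintro _ _ ⟨⟨i, rfl⟩⟩
  refine mem_ofArrows i (𝟙 _) ?_
  rw [Category.id_comp, eqToHom_refl, Category.comp_id, w, Category.comp_id]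

end K389.Fam
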