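import Groth.Agent.Desc.K389.FamRep

/-!
# The essential image of pullback of descent data

`Univ D b E`: the sections of `D` over schemes over `V` (`b : V ⟶ S`) are represented by `E` over `V`.
`ofUniv`: the descent datum relative to `b j : V j ⟶ S` given by universal sections over each `V j`.
`pullIso`: if `a i = g i ≫ b (α i)` then its pullback is `D`.
-/

set_option autoImplicit false
set_option backward.isDefEq.respectTransparency false
set_option backward.isDefEq.respectTransparency.types false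
open CategoryTheory CategoryTheory.Limits AlgebraicGeometry Opposite
universe w' w u
open _root_.Desc Groth.Agent.Desc.SecFunctor

namespace K389.Fam

variable {S : Scheme.{u}} {ι : Type w'} {κ : Type w} {U : ι → Scheme.{u}} {V : κ → Scheme.{u}}
  {a : ∀ i, U i ⟶ S} {b : ∀ j, V j ⟶ S} {α : ι → κ} {g : ∀ i, U i ⟶ V (α i)}

theorem Sec.retarget {D : SchDDFam a} {T T₁ T₂ : Scheme.{u}} {t t' : T ⟶ S} (e : t = t')
    {g₁ : T ⟶ T₁} {g₂ : T ⟶ T₂} {t₁ : T₁ ⟶ S} {t₂ : T₂ ⟶ S} {s₁ : Sec D t₁} {s₂ : Sec D t₂}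
    {h₁ : g₁ ≫ t₁ = t} {h₂ : g₂ ≫ t₂ = t} (H : Sec.map g₁ h₁ s₁ = Sec.map g₂ h₂ s₂) :
    Sec.map g₁ (h₁.trans e) s₁ = Sec.map g₂ (h₂.trans e) s₂ := by
  subst e; exact H

/-- The sections of `D` over schemes over `V` are represented by `E`. -/
structure Univ (D : SchDDFam a) {V : Scheme.{u}} (b : V ⟶ S) (E : Over V) where
  /-- the universal section -/
  sec : Sec D (E.hom ≫ b)
  exu : ∀ {T : Scheme.{u}} (x : T ⟶ V) (t : T ⟶ S) (hx : x ≫ b = t) (s : Sec D t),
    ∃! y : T ⟶ E.left, ∃ h : y ≫ E.hom = x, Sec.map y (by rw [← Category.assoc, h, hx]) sec = s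

namespace Univ

variable {D : SchDDFam a} {V : Scheme.{u}} {b : V ⟶ S} {E : Over V} (Un : Univ D b E)
  {T T' : Scheme.{u}} {t : T ⟶ S}

/-- The classifying map of a section. -/
noncomputable def lift (x : T ⟶ V) (hx : x ≫ b = t) (s : Sec D t) : T ⟶ E.left :=
  (Un.exu x t hx s).choose

@[reassoc]
theorem lift_hom (x : T ⟶ V) (hx : x ≫ b = t) (s : Sec D t) : Un.lift x hx s ≫ E.hom = x :=
  (Un.exu x t hx s).choose_spec.1.1

theorem map_lift (x : T ⟶ V) (hx : x ≫ b = t) (s : Sec D t) (h : Un.lift x hx s ≫ E.hom ≫ b = t) :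
    Sec.map (Un.lift x hx s) h Un.sec = s :=
  (Un.exu x t hx s).choose_spec.1.2

theorem lift_uniq (x : T ⟶ V) (hx : x ≫ b = t) (s : Sec D t) (y : T ⟶ E.left)
    (hy : y ≫ E.hom = x) (h : y ≫ E.hom ≫ b = t) (e : Sec.map y h Un.sec = s) :
    Un.lift x hx s = y :=
  ((Un.exu x t hx s).choose_spec.2 y ⟨hy, e⟩).symm

theorem hom_ext {y y' : T ⟶ E.left} (hy : y ≫ E.hom = y' ≫ E.hom) (h : y ≫ E.hom ≫ b = t)
    (h' : y' ≫ E.hom ≫ b = t) (e : Sec.map y h Un.sec = Sec.map y' h' Un.sec) : y = y' := by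
  have h1 := Un.lift_uniq (y' ≫ E.hom) (by rw [Category.assoc, h']) _ y hy h rfl
  have h2 := Un.lift_uniq (y' ≫ E.hom) (by rw [Category.assoc, h']) _ y' rfl h' rfl
  rw [e, h2] at h1
  exact h1.symm

/-- Universal sections from a representation. -/
noncomputable def ofRep (r : ((Over.map b).op ⋙ secF D).RepresentableBy E) : Univ D b E where
  sec := r.homEquiv (𝟙 E)
  exu {T} x t hx s := by
    subst hx
    have h0 : ∀ y : Over.mk x ⟶ E, r.homEquiv y = Sec.map (t := E.hom ≫ b) (t' := x ≫ b) y.left (by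
        rw [← Category.assoc, Over.w]; rfl) (r.homEquiv (𝟙 E)) := by
      intro y
      have := r.homEquiv_comp y (𝟙 E)
      rw [Category.comp_id] at this
      exact this
    let s' : ((Over.map b).op ⋙ secF D).obj (op (Over.mk x)) := s
    refine ⟨(r.homEquiv.symm s').left, ⟨Over.w (r.homEquiv.symm s'), ?_⟩, ?_⟩
    · rw [← h0, Equiv.apply_symm_apply]
    · rintro y ⟨hy, hys⟩
      have h1 : r.homEquiv (Over.homMk y hy : Over.mk x ⟶ E) = s' := (h0 _).trans hys
      rw [← h1, Equiv.symm_apply_apply]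
      rfl

end Univ

variable {D : SchDDFam a} {E : ∀ j, Over (V j)} (Un : ∀ j, Univ D (b j) (E j))

/-- The descent datum given by universal sections. -/
noncomputable def ofUniv : SchDDFam b :=
  mk' E (fun T i j v x h => (Un j).lift x h.symm (Sec.map v rfl (Un i).sec))
    (fun T i j v x h => (Un j).lift_hom _ _ _)
    (fun T T' g i j v x h h' => by
      symm
      refine (Un j).lift_uniq _ _ _ _ (by rw [Category.assoc, Univ.lift_hom]) (by
        rw [Category.assoc, Univ.lift_hom_assoc, ← Category.assoc, ← h']) ?_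
      have h1 := (Un j).map_lift x h.symm (Sec.map v rfl (Un i).sec) (by
        rw [Univ.lift_hom_assoc, h])
      have h2 := congrArg (Sec.map (t' := (g ≫ v) ≫ (E i).hom ≫ b i) g (by rw [Category.assoc])) h1
      rw [Sec.map_map, Sec.map_map] at h2
      exact h2)
    (fun T i v h => (Un i).lift_uniq _ _ _ _ rfl _ rfl)
    (fun T i j k v x y h h' h'' => by
      symm
      refine (Un k).lift_uniq _ _ _ _ (Univ.lift_hom _ _ _ _) (by
        rw [Univ.lift_hom_assoc, h'']) ?_
      have h1 := (Un j).map_lift x h.symm (Sec.map v rfl (Un i).sec) (by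
        rw [Univ.lift_hom_assoc, h])
      have h2 := (Un k).map_lift y h'.symm (Sec.map ((Un j).lift x h.symm
        (Sec.map v rfl (Un i).sec)) rfl (Un j).sec) (by
          rw [Univ.lift_hom_assoc, h'])
      have h3 := Sec.retarget (h'.trans h''.symm) h2
      exact h3.trans h1)

theorem ofUniv_obj (j : κ) : (ofUniv Un).obj j = E j := rfl

theorem tr_ofUniv {T : Scheme.{u}} {i j : κ} (v : T ⟶ (E i).left) (x : T ⟶ V j)
    (h : v ≫ (E i).hom ≫ b i = x ≫ b j) :
    tr (ofUniv Un) v x h = (Un j).lift x h.symm (Sec.map v rfl (Un i).sec) := rfl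

theorem map_tr_ofUniv {T : Scheme.{u}} {i j : κ} (v : T ⟶ (E i).left) (x : T ⟶ V j)
    (h : v ≫ (E i).hom ≫ b i = x ≫ b j) (h') :
    Sec.map (t' := v ≫ (E i).hom ≫ b i) (tr (ofUniv Un) v x h) h' (Un j).sec =
      Sec.map v rfl (Un i).sec := (Un j).map_lift x h.symm (Sec.map v rfl (Un i).sec) h'

section pull

variable (w : ∀ i, g i ≫ b (α i) = a i ≫ 𝟙 S)

/-- The comparison of the pullback of `ofUniv` with `D`. -/
noncomputable def pullHom : (pullDDFam w).obj (ofUniv Un) ⟶ D :=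
  homMk' (fun i => Over.homMk (Sec.ev (Un (α i)).sec (pullback.fst (E (α i)).hom (g i))
      (pullback.snd (E (α i)).hom (g i)) (by
        rw [pullback.condition_assoc, w, Category.comp_id])) (Sec.ev_hom _ _ _ _)) (by
    intro T i j v x h h'
    have hw : ∀ i, pullback.fst (E (α i)).hom (g i) ≫ (E (α i)).hom ≫ b (α i) =
        pullback.snd (E (α i)).hom (g i) ≫ a i := fun i => by
      rw [pullback.condition_assoc, w, Category.comp_id]
    have h0 : v ≫ pullback.snd (E (α i)).hom (g i) ≫ a i = x ≫ a j := h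
    have e1 : (v ≫ pullback.fst (E (α i)).hom (g i)) ≫ (E (α i)).hom ≫ b (α i) =
        (v ≫ pullback.snd (E (α i)).hom (g i)) ≫ a i := by
      rw [Category.assoc, hw, Category.assoc]
    have e2 : (v ≫ pullback.fst (E (α i)).hom (g i)) ≫ (E (α i)).hom ≫ b (α i) = x ≫ a j := by
      rw [e1, Category.assoc, h0]
    change tr D (v ≫ Sec.ev (Un (α i)).sec (pullback.fst (E (α i)).hom (g i))
      (pullback.snd (E (α i)).hom (g i)) (hw i)) x h' = tr ((pullDDFam w).obj (ofUniv Un)) v x h ≫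
      Sec.ev (Un (α j)).sec (pullback.fst (E (α j)).hom (g j))
      (pullback.snd (E (α j)).hom (g j)) (hw j)
    rw [tr_congr D (Sec.comp_ev _ v _ _ (hw i) e1) rfl, Sec.tr_ev _ _ _ _ _ e2]
    have f1 : tr ((pullDDFam w).obj (ofUniv Un)) v x h ≫ pullback.fst (E (α j)).hom (g j) =
        tr (ofUniv Un) (v ≫ pullback.fst (E (α i)).hom (g i)) (x ≫ g j)
          (pull_aux w (ofUniv Un) v x h) := tr_pull_fst w (ofUniv Un) v x h
    have f2 : tr ((pullDDFam w).obj (ofUniv Un)) v x h ≫ pullback.snd (E (α j)).hom (g j) = x :=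
      tr_pull_snd w (ofUniv Un) v x h
    have e3 : tr (ofUniv Un) (v ≫ pullback.fst (E (α i)).hom (g i)) (x ≫ g j)
          (pull_aux w (ofUniv Un) v x h) ≫ (E (α j)).hom ≫ b (α j) =
          (v ≫ pullback.fst (E (α i)).hom (g i)) ≫ (E (α i)).hom ≫ b (α i) := by
      have := tr_hom (ofUniv Un) (v ≫ pullback.fst (E (α i)).hom (g i)) (x ≫ g j)
          (pull_aux w (ofUniv Un) v x h)
      have h9 : tr (ofUniv Un) (v ≫ pullback.fst (E (α i)).hom (g i)) (x ≫ g j)
          (pull_aux w (ofUniv Un) v x h) ≫ (E (α j)).hom = x ≫ g j := this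
      rw [reassoc_of% h9, e2, w, Category.comp_id]
    refine Eq.trans ?_ (Sec.comp_ev _ _ _ _ (hw j) (by
      rw [f1, f2, e3, e2])).symm
    rw [Sec.ev_congr _ f1 f2 _ (by rw [e3, e2]), Sec.ev_eq_pt, Sec.ev_eq_pt]
    have h8 := map_tr_ofUniv Un (v ≫ pullback.fst (E (α i)).hom (g i)) (x ≫ g j)
      (pull_aux w (ofUniv Un) v x h) e3
    have h7 : ∀ {t t' : T ⟶ S} (e : t = t') (s : Sec D t) (s' : Sec D t')
        (_ : Sec.map (𝟙 T) (by rw [Category.id_comp, e]) s = s') (h : t = x ≫ a j)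
        (h' : t' = x ≫ a j), Sec.pt s x h = Sec.pt s' x h' := by
      intro t t' e s s' hs h h'
      subst e
      rw [← hs, Sec.map_id]
    symm
    refine h7 e3 _ _ ?_ _ _
    rw [Sec.map_map]
    exact (Sec.map_congr (Category.id_comp _) _ _).trans h8)

theorem comp_pullHom (i : ι) {T : Scheme.{u}} (v : T ⟶ pullback (E (α i)).hom (g i)) (x : T ⟶ U i)
    (hx : v ≫ pullback.snd (E (α i)).hom (g i) = x)
    (h : (v ≫ pullback.fst (E (α i)).hom (g i)) ≫ (E (α i)).hom ≫ b (α i) = x ≫ a i) :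
    v ≫ ((pullHom Un w).hom i).left =
      Sec.pt (Sec.map (t' := x ≫ a i) (v ≫ pullback.fst (E (α i)).hom (g i)) h (Un (α i)).sec)
        x rfl := by
  subst hx
  have hw : pullback.fst (E (α i)).hom (g i) ≫ (E (α i)).hom ≫ b (α i) =
        pullback.snd (E (α i)).hom (g i) ≫ a i := by
      rw [pullback.condition_assoc, w, Category.comp_id]
  change v ≫ Sec.ev (Un (α i)).sec (pullback.fst (E (α i)).hom (g i))
      (pullback.snd (E (α i)).hom (g i)) hw = _
  rw [Sec.pt, Sec.ev_map _ _ _ _ _ _ (by rw [Category.id_comp, h]),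
    Sec.comp_ev _ _ _ _ _ h]
  exact Sec.ev_congr _ (Category.id_comp _).symm rfl _ _

theorem isIso_pullHom_hom (i : ι) : IsIso ((pullHom Un w).hom i) := by
  apply Groth.Agent.Desc.SecFunctor.isIso_of_bijective
  intro Y
  have hY0 : ∀ v : Y ⟶ ((pullDDFam w).obj (ofUniv Un)).obj i,
      v.left ≫ pullback.snd (E (α i)).hom (g i) = Y.hom := fun v => Over.w v
  have hY1 : ∀ v : Y ⟶ ((pullDDFam w).obj (ofUniv Un)).obj i,
      (v.left ≫ pullback.fst (E (α i)).hom (g i)) ≫ (E (α i)).hom = Y.hom ≫ g i := by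
    intro v
    rw [Category.assoc, pullback.condition, ← hY0 v, Category.assoc]
  have hY : ∀ v : Y ⟶ ((pullDDFam w).obj (ofUniv Un)).obj i,
      (v.left ≫ pullback.fst (E (α i)).hom (g i)) ≫ (E (α i)).hom ≫ b (α i) = Y.hom ≫ a i := by
    intro v
    rw [← Category.assoc, hY1, Category.assoc, w, Category.comp_id]
  constructor
  · intro v v' hv
    have h1 : v.left ≫ ((pullHom Un w).hom i).left = v'.left ≫ ((pullHom Un w).hom i).left :=
      congrArg (fun k => k.left) hv
    rw [comp_pullHom Un w i v.left Y.hom (hY0 v) (hY v),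
      comp_pullHom Un w i v'.left Y.hom (hY0 v') (hY v')] at h1
    have h2 := Sec.pt_injective _ _ h1
    have h3 := (Un (α i)).hom_ext (by rw [hY1 v, hY1 v']) _ _ h2
    ext
    apply pullback.hom_ext
    · exact h3
    · exact (hY0 v).trans (hY0 v').symm
  · intro p
    have hp : p.left ≫ (D.obj i).hom ≫ a i = Y.hom ≫ a i := by rw [Over.w_assoc]
    have hx : (Y.hom ≫ g i) ≫ b (α i) = Y.hom ≫ a i := by rw [Category.assoc, w, Category.comp_id]
    let y := (Un (α i)).lift (Y.hom ≫ g i) hx (Sec.ofPt p.left hp)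
    have hy : y ≫ (E (α i)).hom = Y.hom ≫ g i := (Un (α i)).lift_hom _ _ _
    have hy' : y ≫ (E (α i)).hom ≫ b (α i) = Y.hom ≫ a i := by rw [reassoc_of% hy, w, Category.comp_id]
    have hys := (Un (α i)).map_lift (Y.hom ≫ g i) hx (Sec.ofPt p.left hp) hy'
    refine ⟨Over.homMk (pullback.lift y Y.hom hy) (pullback.lift_snd _ _ _), ?_⟩
    ext
    change pullback.lift y Y.hom hy ≫ ((pullHom Un w).hom i).left = p.left
    rw [comp_pullHom Un w i _ Y.hom (pullback.lift_snd _ _ _) (by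
      rw [pullback.lift_fst, hy']), Sec.map_congr (pullback.lift_fst _ _ _), hys]
    exact Sec.pt_ofPt _ _ _ (Over.w p) rfl

/-- The pullback of `ofUniv` is `D`. -/
noncomputable def pullUnivIso : (pullDDFam w).obj (ofUniv Un) ≅ D :=
  haveI : ∀ i, IsIso ((pullHom Un w).hom i) := fun i => isIso_pullHom_hom Un w i
  isoMk' (fun i => asIso ((pullHom Un w).hom i)) fun T i j v x h h' =>
    comm' (pullHom Un w) v x h h'

end pull

/-- Criterion for the essential image of pullback of descent data. -/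
theorem essSurj_of_rep (w : ∀ i, g i ≫ b (α i) = a i ≫ 𝟙 S)
    (H : ∀ (D : SchDDFam a) (j : κ), ∃ E : Over (V j),
      Nonempty (((Over.map (b j)).op ⋙ secF D).RepresentableBy E)) : (pullDDFam w).EssSurj where
  mem_essImage D := by
    choose E hE using H D
    exact ⟨ofUniv (fun j => Univ.ofRep (hE j).some), ⟨pullUnivIso _ w⟩⟩

end K389.Fam
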