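import Groth.Agent.Desc.K389.FamUniv
import Groth.Agent.Desc.K389.FamFpqc
import Groth.Agent.Desc.K389.FamEff

/-!
# Pullback of descent data along Zariski refinements is an equivalence
-/

set_option autoImplicit false
set_option backward.isDefEq.respectTransparency false
set_option backward.isDefEq.respectTransparency.types false
open CategoryTheory CategoryTheory.Limits AlgebraicGeometry Opposite
universe w' w u
open _root_.Desc Groth.Agent.Picfga.OverRep Groth.Agent.Desc.SecFunctor
  Groth.Agent.Desc.SecPresheaf Groth.Agent.Desc.SecDescent Groth.Agent.Desc.ZarGlue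

namespace K389.Fam

variable {S : Scheme.{u}} {ι : Type u} {κ : Type w} {U : ι → Scheme.{u}} {V : κ → Scheme.{u}}
  {a : ∀ i, U i ⟶ S} {b : ∀ j, V j ⟶ S} {α : ι → κ} {g : ∀ i, U i ⟶ V (α i)}

theorem essSurj_of_zariski (w : ∀ i, g i ≫ b (α i) = a i ≫ 𝟙 S)
    (hcov : ∀ j, Presieve.ofArrows (fun i : {i // α i = j} => U i.1)
      (fun i => g i.1 ≫ eqToHom (congrArg V i.2)) ∈ Scheme.zariskiPrecoverage (V j)) :
    (pullDDFam w).EssSurj := by
  refine essSurj_of_rep w fun D j => ?_
  have h := hcov j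
  rw [Scheme.zariskiPrecoverage, Scheme.ofArrows_mem_precoverage_iff] at h
  have : ∀ i : {i // α i = j}, IsOpenImmersion (g i.1 ≫ eqToHom (congrArg V i.2)) := h.2
  have hx : ∀ i : {i // α i = j}, 𝟙 (U i.1) ≫ a i.1 =
      (g i.1 ≫ eqToHom (congrArg V i.2)) ≫ b j := by
    rintro ⟨i, rfl⟩
    rw [eqToHom_refl, Category.comp_id, w, Category.comp_id, Category.id_comp]
  exact exists_rep_of_openImmersions (F := restr (b j) (secF D))
    (Groth.Agent.Desc.IntEff.isZarSheaf_restr (b j) (isZarSheaf_secF D))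
    (fun i : {i // α i = j} => g i.1 ≫ eqToHom (congrArg V i.2)) h.1
    (fun i => (Over.pullback (𝟙 (U i.1))).obj (D.obj i.1))
    (fun i => (repOver D _ i.1 (𝟙 (U i.1)) (hx i)).ofIso (restrCompIso rfl (secF D)).symm)

theorem isEquivalence_of_zariski (w : ∀ i, g i ≫ b (α i) = a i ≫ 𝟙 S)
    (hcov : ∀ j, Presieve.ofArrows (fun i : {i // α i = j} => U i.1)
      (fun i => g i.1 ≫ eqToHom (congrArg V i.2)) ∈ Scheme.zariskiPrecoverage (V j)) :
    (pullDDFam w).IsEquivalence := by
  have hmem : ∀ j, (Sieve.ofArrows U a).pullback (b j) ∈ Scheme.fpqcTopology (V j) := fun j =>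
    Scheme.zariskiTopology_le_fpqcTopology _ (mem_of_local w j (hcov j))
  have := full_of_mem w hmem
  have := faithful_of_mem w hmem
  have := essSurj_of_zariski w hcov
  exact { }

end K389.Fam
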