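import Groth.Agent.CohqA.FinSec
import Groth.Agent.FormalB.PullCoh

/-!
# Modules generated by at most `r` sections

* `GLE r M`: `M` is generated by at most `r` global sections;
* `SpanLE r A N`: the `A`-module `N` is spanned by `r` elements;
* `gle_iff`: comparison over affine opens;
* `locGLE_iff`: comparison with local generators data.
-/

set_option autoImplicit false
set_option backward.isDefEq.respectTransparency false
set_option backward.isDefEq.respectTransparency.types false

universe u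

open CategoryTheory CategoryTheory.Limits AlgebraicGeometry Opposite TopologicalSpace
open AlgebraicGeometry.Scheme.Modules
open Groth.Agent.Fdesc.QCohStalk Groth.Agent.CohqA.FinLocal Groth.Agent.CohqA.FinAffine
open Groth.Agent.CohqA.AffSec Groth.Agent.CohqA.FinSec

namespace K389.GenLe

/-- `N` is spanned by `r` elements. -/
def SpanLE (r : ℕ) (A : Type*) [CommRing A] (N : Type*) [AddCommGroup N] [Module A N] : Prop :=
  ∃ v : Fin r → N, Submodule.span A (Set.range v) = ⊤

section Algebra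

variable {A : Type*} [CommRing A] {N : Type*} [AddCommGroup N] [Module A N]
  {N' : Type*} [AddCommGroup N'] [Module A N']

theorem spanLE_of_finsupp {r : ℕ} {I : Type*} [Finite I] (hI : Nat.card I ≤ r)
    (f : (I →₀ A) →ₗ[A] N) (hf : Function.Surjective f) : SpanLE r A N := by
  classical
  have : Fintype I := Fintype.ofFinite I
  rw [Nat.card_eq_fintype_card] at hI
  obtain ⟨j⟩ := (Function.Embedding.nonempty_iff_card_le (α := I) (β := Fin r)).mpr (by simpa using hI)
  refine ⟨fun k => if h : ∃ i, j i = k then f (Finsupp.single h.choose 1) else 0, ?_⟩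
  rw [eq_top_iff]
  rintro x -
  obtain ⟨y, rfl⟩ := hf x
  induction y using Finsupp.induction_linear with
  | zero => rw [map_zero]; exact Submodule.zero_mem _
  | add a b ha hb => rw [map_add]; exact Submodule.add_mem _ ha hb
  | single i c =>
    have h1 : f (Finsupp.single i c) = c • f (Finsupp.single i 1) := by
      rw [← _root_.map_smul, Finsupp.smul_single, smul_eq_mul, mul_one]
    rw [h1]
    refine Submodule.smul_mem _ _ (Submodule.subset_span ⟨j i, ?_⟩)
    have h : ∃ i', j i' = j i := ⟨i, rfl⟩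
    have h2 : h.choose = i := j.injective h.choose_spec
    simp only [dif_pos h, h2]

theorem SpanLE.exists_finsupp {r : ℕ} (h : SpanLE r A N) :
    ∃ f : (ULift.{u} (Fin r) →₀ A) →ₗ[A] N, Function.Surjective f := by
  obtain ⟨v, hv⟩ := h
  refine ⟨Finsupp.linearCombination A fun i : ULift.{u} (Fin r) => v i.down, ?_⟩
  rw [← LinearMap.range_eq_top, Finsupp.range_linearCombination, ← hv]
  congr 1
  ext x
  constructor
  · rintro ⟨i, rfl⟩; exact ⟨i.down, rfl⟩
  · rintro ⟨i, rfl⟩; exact ⟨⟨i⟩, rfl⟩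

theorem SpanLE.of_surjective {r : ℕ} (h : SpanLE r A N) (f : N →ₗ[A] N')
    (hf : Function.Surjective f) : SpanLE r A N' := by
  obtain ⟨v, hv⟩ := h
  refine ⟨f ∘ v, ?_⟩
  rw [Set.range_comp, Submodule.span_image, hv, Submodule.map_top, LinearMap.range_eq_top]
  exact hf

theorem spanLE_congr {r : ℕ} (e : N ≃ₗ[A] N') : SpanLE r A N ↔ SpanLE r A N' :=
  ⟨fun h => h.of_surjective e.toLinearMap e.surjective,
    fun h => h.of_surjective e.symm.toLinearMap e.symm.surjective⟩

end Algebra

variable {X Y : Scheme.{u}}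

/-- `M` is generated by at most `r` global sections. -/
def GLE (r : ℕ) (M : X.Modules) : Prop :=
  ∃ G : SheafOfModules.GeneratingSections M, Finite G.I ∧ Nat.card G.I ≤ r

theorem GLE.of_iso {r : ℕ} {M N : X.Modules} (e : M ≅ N) (h : GLE r M) : GLE r N := by
  obtain ⟨G, hG, hG'⟩ := h
  exact ⟨SheafOfModules.GeneratingSections.ofEpi (R := X.ringCatSheaf) G e.hom, hG, hG'⟩

theorem GLE.restrict {r : ℕ} {M : X.Modules} (h : GLE r M) (f : Y ⟶ X) [IsOpenImmersion f] :
    GLE r (M.restrict f) := by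
  obtain ⟨G, hG, hG'⟩ := h
  have : PreservesColimitsOfSize.{u, u} (Scheme.Modules.restrictFunctor f) := inferInstance
  exact ⟨G.map (restrictFunctor f) (restrictUnitIso f).symm, hG, hG'⟩

theorem GLE.pullback {r : ℕ} {M : X.Modules} (h : GLE r M) (f : Y ⟶ X) :
    GLE r ((Scheme.Modules.pullback f).obj M) := by
  obtain ⟨G, hG, hG'⟩ := h
  exact ⟨Groth.Agent.FormalB.PullCoh.generatorsPullback f G, hG, hG'⟩

theorem gle_restrict_of_over {r : ℕ} {M : X.Modules} {U : X.Opens}
    (G : (SheafOfModules.over.{u} M U).GeneratingSections) (hG : Finite G.I) (hG' : Nat.card G.I ≤ r) :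
    GLE r (M.restrict U.ι) := by
  let F := (overEquiv U).functor
  let G' := G.map F (Iso.refl _)
  exact ⟨G'.ofEpi ((overFunctorEquiv U).app M).hom, hG, hG'⟩

theorem over_of_gle_restrict {r : ℕ} {M : X.Modules} {U : X.Opens} (h : GLE r (M.restrict U.ι)) :
    ∃ G : (SheafOfModules.over.{u} M U).GeneratingSections, Finite G.I ∧ Nat.card G.I ≤ r := by
  obtain ⟨G, hG, hG'⟩ := h
  let F := (overEquiv U).inverse
  have : PreservesColimitsOfSize.{u, u} F := inferInstance
  let G' : SheafOfModules.GeneratingSections (F.obj ((overEquiv U).functor.obj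
    (SheafOfModules.over.{u} M U))) :=
    (G.ofEpi ((overFunctorEquiv U).app M).inv).map F ((overEquiv U).unitIso.app _)
  exact ⟨G'.ofEpi ((overEquiv U).unitIso.app _).inv, hG, hG'⟩

/-- Local generators data of size at most `r`. -/
theorem exists_data_iff (r : ℕ) (M : X.Modules) :
    (∃ σ : SheafOfModules.LocalGeneratorsData.{u} (R := X.ringCatSheaf) M,
      ∀ k, Finite (σ.generators k).I ∧ Nat.card (σ.generators k).I ≤ r) ↔
      ∀ x : X, ∃ U : X.Opens, x ∈ U ∧ GLE r (M.restrict U.ι) := by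
  constructor
  · rintro ⟨σ, hσ⟩ x
    have hc := σ.coversTop
    rw [Opens.coversTop_iff, IsOpenCover] at hc
    have hx : x ∈ ⨆ i, σ.X i := by rw [hc]; trivial
    rw [Opens.mem_iSup] at hx
    obtain ⟨i, hi⟩ := hx
    exact ⟨σ.X i, hi, gle_restrict_of_over (σ.generators i) (hσ i).1 (hσ i).2⟩
  · intro h
    choose U hU hG using h
    choose G hG' using fun x => over_of_gle_restrict (hG x)
    have hc : (Opens.grothendieckTopology X).CoversTop U := by
      rw [Opens.coversTop_iff, IsOpenCover]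
      exact eq_top_iff.mpr fun x _ => Opens.mem_iSup.mpr ⟨x, hU x⟩
    exact ⟨SheafOfModules.LocalGeneratorsData.mk.{u, u, u, u} (I := ↥X) U hc G, hG'⟩

section Affine

variable {R : CommRingCat.{u}}

theorem spanLE_of_generatingSections {r : ℕ} {N : ModuleCat.{u} R} (h : GLE r (tilde N)) :
    SpanLE r R N := by
  obtain ⟨G, hG, hG'⟩ := h
  let I := G.I
  let p : SheafOfModules.free.{u} I ⟶ tilde N := G.π
  have hp : Epi p := G.epi
  let g : ModuleCat.of R (I →₀ R) ⟶ N := (tilde.functor R).preimage ((tildeFinsupp I).hom ≫ p)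
  have hg : tilde.map g = (tildeFinsupp I).hom ≫ p := (tilde.functor R).map_preimage _
  have : Epi (tilde.map g) := by
    rw [hg]
    exact @epi_comp _ _ _ _ _ (tildeFinsupp I).hom inferInstance p hp
  exact spanLE_of_finsupp hG' g.hom (surjective_of_epi_tilde_map g)

theorem gle_of_spanLE {r : ℕ} {N : ModuleCat.{u} R} (h : SpanLE r R N) : GLE r (tilde N) := by
  obtain ⟨e, he⟩ := h.exists_finsupp
  have : Epi (ModuleCat.ofHom e) := (ModuleCat.epi_iff_surjective _).mpr he
  have h2 : Epi ((tilde.functor R).map (ModuleCat.ofHom e)) := inferInstance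
  let p : SheafOfModules.free.{u} (ULift.{u} (Fin r)) ⟶ tilde N :=
    (tildeFinsupp _).inv ≫ (tilde.functor R).map (ModuleCat.ofHom e)
  have hp : Epi p :=
    @epi_comp _ _ _ _ _ (tildeFinsupp _).inv inferInstance ((tilde.functor R).map (ModuleCat.ofHom e)) h2
  refine ⟨⟨ULift.{u} (Fin r), SheafOfModules.freeHomEquiv _ p, ?_⟩, ?_, ?_⟩
  · rw [Equiv.symm_apply_apply]; exact hp
  · dsimp; infer_instance
  · simp

variable {M : X.Modules} {U : X.Opens} (hU : IsAffineOpen U)

theorem gle_fromSpec_iff {r : ℕ} (hM : Coh.IsQCoh M) :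
    GLE r (M.restrict hU.fromSpec) ↔ SpanLE r Γ(X, U) Γ(M, U) := by
  let N := M.restrict hU.fromSpec
  have : IsIso N.fromTildeΓ :=
    (isQuasicoherent_iff_isIso_fromTildeΓ N).mp (restrict_isQCoh M hM _)
  let T := ((modulesSpecToSheaf.obj N).presheaf.obj (.op ⊤))
  have e : SpanLE r Γ(X, U) T ↔ SpanLE r Γ(X, U) Γ(M, U) :=
    spanLE_congr (secEquiv M hU)
  rw [← e]
  constructor
  · intro h
    exact spanLE_of_generatingSections (h.of_iso (asIso N.fromTildeΓ).symm)
  · intro h
    exact GLE.of_iso (asIso N.fromTildeΓ) (gle_of_spanLE h)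

include hU in
theorem gle_iff {r : ℕ} (hM : Coh.IsQCoh M) :
    GLE r (M.restrict U.ι) ↔ SpanLE r Γ(X, U) Γ(M, U) :=
  Iff.trans ⟨fun h => (h.restrict hU.isoSpec.inv).of_iso (restrictIsoSpec' M hU),
   fun h => (h.restrict hU.isoSpec.hom).of_iso (restrictIsoSpec M hU)⟩ (gle_fromSpec_iff hU hM)

end Affine

theorem gle_of_le {r : ℕ} {M : X.Modules} {V W : X.Opens} (h : V ≤ W) (hW : GLE r (M.restrict W.ι)) :
    GLE r (M.restrict V.ι) :=
  (hW.restrict (X.homOfLE h)).of_iso (restrictHomOfLE M h)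

/-- Locally generated by at most `r` sections near `x`. -/
def LocGLE (r : ℕ) (M : X.Modules) (x : X) : Prop := ∃ U : X.Opens, x ∈ U ∧ GLE r (M.restrict U.ι)

theorem LocGLE.of_iso {r : ℕ} {M N : X.Modules} (e : M ≅ N) {x : X} (h : LocGLE r M x) :
    LocGLE r N x := by
  obtain ⟨U, hU, h⟩ := h
  exact ⟨U, hU, h.of_iso ((restrictFunctor U.ι).mapIso e)⟩

/-- Pullback. -/
theorem LocGLE.pullback {r : ℕ} {M : Y.Modules} (f : X ⟶ Y) {x : X} (h : LocGLE r M (f x)) :
    LocGLE r ((Scheme.Modules.pullback f).obj M) x := by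
  obtain ⟨U, hU, h⟩ := h
  exact ⟨f ⁻¹ᵁ U, hU, (h.pullback (f ∣_ U)).of_iso
    ((Groth.Agent.FormalB.PullCoh.restrictPullbackIso f U).app M)⟩

/-- Restriction along open immersions: converse. -/
theorem LocGLE.of_restrict {r : ℕ} {M : Y.Modules} (f : X ⟶ Y) [IsOpenImmersion f] {x : X}
    (h : LocGLE r (M.restrict f) x) : LocGLE r M (f x) := by
  obtain ⟨U, hU, h⟩ := h
  refine ⟨f ''ᵁ U, ⟨x, hU, rfl⟩, ?_⟩
  let k : (f ''ᵁ U : Scheme.{u}) ≅ U := (f.isoImage U).symm
  have hk : k.hom ≫ U.ι ≫ f = (f ''ᵁ U).ι := by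
    simp [k]
  refine (h.restrict k.hom).of_iso ?_
  exact ((restrictFunctorComp k.hom U.ι).symm.app (M.restrict f)) ≪≫
    ((restrictFunctorComp (k.hom ≫ U.ι) f).symm.app M) ≪≫
    ((restrictFunctorCongr (by rw [Category.assoc]; exact hk)).app M)

end K389.GenLe
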