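import Groth.Agent.Desc.K389.GenLe
import Groth.Agent.VarietyB.PullSec
import Mathlib.RingTheory.Finiteness.Descent
import Mathlib.RingTheory.LocalRing.Module
import Mathlib.LinearAlgebra.Dimension.StrongRankCondition
import Mathlib.RingTheory.Spectrum.Prime.FreeLocus

/-!
# Number of generators and base change to a field
-/

set_option autoImplicit false

universe u

open scoped TensorProduct

namespace K389.GenLe

section Algebra

variable {A : Type u} [CommRing A] {M : Type u} [AddCommGroup M] [Module A M]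

theorem SpanLE.mono {r s : ℕ} (h : SpanLE r A M) (hrs : r ≤ s) : SpanLE s A M := by
  obtain ⟨v, hv⟩ := h
  refine ⟨fun i => if h : i.1 < r then v ⟨i.1, h⟩ else 0, ?_⟩
  rw [eq_top_iff, ← hv, Submodule.span_le]
  rintro _ ⟨i, rfl⟩
  refine Submodule.subset_span ⟨⟨i.1, i.2.trans_le hrs⟩, ?_⟩
  simp

theorem SpanLE.baseChange {r : ℕ} (B : Type u) [CommRing B] [Algebra A B] (h : SpanLE r A M) :
    SpanLE r B (B ⊗[A] M) := by
  obtain ⟨v, hv⟩ := h
  refine ⟨fun i => 1 ⊗ₜ[A] v i, ?_⟩
  have h1 := Submodule.baseChange_span (A := B) (R := A) (M := M) (Set.range v)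
  rw [hv, Submodule.baseChange_top] at h1
  rw [h1]
  congr 1
  ext x
  constructor
  · rintro ⟨i, rfl⟩; exact ⟨v i, ⟨i, rfl⟩, rfl⟩
  · rintro ⟨_, ⟨i, rfl⟩, rfl⟩; exact ⟨i, rfl⟩

theorem finrank_le_of_spanLE {r : ℕ} {K V : Type*} [Field K] [AddCommGroup V] [Module K V]
    (h : SpanLE r K V) : Module.finrank K V ≤ r := by
  obtain ⟨v, hv⟩ := h
  simpa using finrank_le_of_span_eq_top hv

theorem finrank_fibre_le {r : ℕ} (B : Type u) [CommRing B] [Algebra A B] (κ κ' : Type u) [Field κ]
    [Field κ'] [Algebra A κ] [Algebra κ κ'] [Algebra A κ'] [IsScalarTower A κ κ'] [Algebra B κ']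
    [IsScalarTower A B κ'] (h : SpanLE r B (B ⊗[A] M)) : Module.finrank κ (κ ⊗[A] M) ≤ r := by
  have h1 : SpanLE r κ' (κ' ⊗[B] (B ⊗[A] M)) := h.baseChange κ'
  have h2 : SpanLE r κ' (κ' ⊗[A] M) :=
    (spanLE_congr (TensorProduct.AlgebraTensorModule.cancelBaseChange A B κ' κ' M)).mp h1
  have h3 : SpanLE r κ' (κ' ⊗[κ] (κ ⊗[A] M)) :=
    (spanLE_congr (TensorProduct.AlgebraTensorModule.cancelBaseChange A κ κ' κ' M)).mpr h2
  have := finrank_le_of_spanLE h3
  rwa [Module.finrank_baseChange] at this

theorem exists_span_of_finrank_le [Module.Finite A M] {r : ℕ} (p : PrimeSpectrum A)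
    (h : Module.finrank p.asIdeal.ResidueField (p.asIdeal.ResidueField ⊗[A] M) ≤ r) :
    ∃ (v : Fin r → M) (g : A), g ∉ p.asIdeal ∧ ∀ m : M, g • m ∈ Submodule.span A (Set.range v) := by
  let κ := p.asIdeal.ResidueField
  let s : Set (κ ⊗[A] M) := Set.range (TensorProduct.mk A κ M 1)
  have hs : Submodule.span κ s = ⊤ := by
    have h5 := Submodule.baseChange_span (A := κ) (R := A) (M := M) Set.univ
    rw [Submodule.span_univ, Submodule.baseChange_top] at h5
    rw [h5]
    congr 1
    ext x
    simp [s]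
  obtain ⟨f, hf1, hf2, -⟩ := Submodule.exists_fun_fin_finrank_span_eq κ s
  have hd : Module.finrank κ (Submodule.span κ s) ≤ r := by
    rw [hs, finrank_top]; exact h
  choose w hw using hf1
  -- pad with zeros
  let v : Fin r → M := fun i => if h : i.1 < Module.finrank κ (Submodule.span κ s) then w ⟨i.1, h⟩ else 0
  let N : Submodule A M := Submodule.span A (Set.range v)
  have hv : ∀ i, w i ∈ N := fun i => by
    refine Submodule.subset_span ⟨⟨i.1, i.2.trans_le hd⟩, ?_⟩
    simp [v]
  have hQ : Subsingleton (κ ⊗[A] (M ⧸ N)) := by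
    have h6 : Function.Surjective (N.mkQ.baseChange κ) :=
      LinearMap.lTensor_surjective κ N.mkQ_surjective
    have h7 : ∀ x : κ ⊗[A] M, N.mkQ.baseChange κ x = 0 := by
      intro x
      have hx : x ∈ Submodule.span κ (Set.range f) := by rw [hf2, hs]; trivial
      refine Submodule.span_induction ?_ (map_zero _) (fun a b _ _ ha hb => by rw [map_add, ha, hb, add_zero])
        (fun c a _ ha => by rw [map_smul, ha, smul_zero]) hx
      rintro _ ⟨i, rfl⟩
      rw [← hw i]
      rw [TensorProduct.mk_apply, LinearMap.baseChange_tmul,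
        show N.mkQ (w i) = 0 from (Submodule.Quotient.mk_eq_zero _).mpr (hv i), TensorProduct.tmul_zero]
    refine ⟨fun a b => ?_⟩
    obtain ⟨a, rfl⟩ := h6 a
    obtain ⟨b, rfl⟩ := h6 b
    rw [h7, h7]
  have h8 : p ∉ Module.support A (M ⧸ N) := by
    rw [Module.mem_support_iff_nontrivial_residueField_tensorProduct]
    exact not_nontrivial_iff_subsingleton.mpr hQ
  rw [Module.mem_support_iff_of_finite] at h8
  obtain ⟨g, hg1, hg2⟩ := SetLike.not_le_iff_exists.mp h8
  refine ⟨v, g, hg2, fun m => ?_⟩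
  rw [Module.mem_annihilator] at hg1
  have := hg1 (N.mkQ m)
  rw [← map_smul] at this
  exact (Submodule.Quotient.mk_eq_zero _).mp this

/-- If some base change of `M` to an algebra with a prime above `p` is spanned by `r` elements, so is
`M` near `p`. -/
theorem exists_span_near [Module.Finite A M] {r : ℕ} (B : Type u) [CommRing B]
    [Algebra A B] (q : PrimeSpectrum B)
    (h : SpanLE r B (B ⊗[A] M)) :
    ∃ (v : Fin r → M) (g : A), g ∉ (q.comap (algebraMap A B)).asIdeal ∧
      ∀ m : M, g • m ∈ Submodule.span A (Set.range v) := by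
  refine exists_span_of_finrank_le _ ?_
  let φ : (q.comap (algebraMap A B)).asIdeal.ResidueField →+* q.asIdeal.ResidueField :=
    Ideal.ResidueField.map (q.comap (algebraMap A B)).asIdeal q.asIdeal (algebraMap A B) rfl
  let _ : Algebra (q.comap (algebraMap A B)).asIdeal.ResidueField q.asIdeal.ResidueField := φ.toAlgebra
  let _ : Algebra A q.asIdeal.ResidueField :=
    ((algebraMap B q.asIdeal.ResidueField).comp (algebraMap A B)).toAlgebra
  have h1 : IsScalarTower A B q.asIdeal.ResidueField := .of_algebraMap_eq fun _ => rfl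
  have h2 : IsScalarTower A (q.comap (algebraMap A B)).asIdeal.ResidueField q.asIdeal.ResidueField :=
    .of_algebraMap_eq fun a => by
      have := Ideal.ResidueField.map_algebraMap (I := (q.comap (algebraMap A B)).asIdeal) (J := q.asIdeal)
        (f := algebraMap A B) rfl a
      exact this.symm
  exact finrank_fibre_le B _ q.asIdeal.ResidueField h

end Algebra

end K389.GenLe
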