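import Groth.Agent.Desc.K389.GenLe
import Groth.Agent.Desc.K389.GenLeAlg
import Groth.Agent.Desc.K388.FpqcTop
import Groth.Agent.VarietyB.PullSec
import Mathlib.AlgebraicGeometry.Morphisms.Flat

/-!
# Local generation by at most `r` sections descends along fpqc covers
-/

set_option autoImplicit false
set_option backward.isDefEq.respectTransparency false
set_option backward.isDefEq.respectTransparency.types false

universe u

open CategoryTheory CategoryTheory.Limits AlgebraicGeometry Opposite TopologicalSpace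
open AlgebraicGeometry.Scheme.Modules
open Groth.Agent.Fdesc.QCohStalk Groth.Agent.CohqA.FinLocal Groth.Agent.CohqA.FinAffine
open Groth.Agent.CohqA.AffSec Groth.Agent.CohqA.FinSec
open scoped TensorProduct

namespace K389.GenLe

/-- Generators near a point of an affine scheme, from generators of the sections up to denominators. -/
theorem gle_of_span {X : Scheme.{u}} {F : X.Modules} (hF : Coh.IsQCoh F) {U : X.Opens}
    (hU : IsAffineOpen U) {r : ℕ} (v : Fin r → Γ(F, U)) (g : Γ(X, U))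
    (h : ∀ m : Γ(F, U), g • m ∈ Submodule.span Γ(X, U) (Set.range v)) :
    GLE r (F.restrict (X.basicOpen g).ι) := by
  rw [gle_iff (hU.basicOpen g) hF]
  let := resModule F (X.basicOpen_le g)
  have hst : IsScalarTower Γ(X, U) Γ(X, X.basicOpen g) Γ(F, X.basicOpen g) :=
    ⟨fun a b c => by exact mul_smul (X.presheaf.map (homOfLE (X.basicOpen_le g)).op a) b c⟩
  have hloc' : IsLocalizedModule (.powers g) (resₗ F (X.basicOpen_le g)) :=
    isLocalizedModule_res F hU hF g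
  have hu : IsUnit (X.presheaf.map (homOfLE (X.basicOpen_le g)).op g) :=
    RingedSpace.isUnit_res_basicOpen _ g
  refine ⟨fun i => resₗ F (X.basicOpen_le g) (v i), ?_⟩
  rw [eq_top_iff]
  rintro y -
  obtain ⟨⟨m, ⟨_, n, rfl⟩⟩, hm⟩ := IsLocalizedModule.surj (.powers g) (resₗ F (X.basicOpen_le g)) y
  have hspan : ∀ m' ∈ Submodule.span Γ(X, U) (Set.range v),
      resₗ F (X.basicOpen_le g) m' ∈ Submodule.span Γ(X, X.basicOpen g)
        (Set.range fun i => resₗ F (X.basicOpen_le g) (v i)) := by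
    intro m' hm'
    induction hm' using Submodule.span_induction with
    | mem _ h => obtain ⟨i, rfl⟩ := h; exact Submodule.subset_span ⟨i, rfl⟩
    | zero => rw [map_zero]; exact Submodule.zero_mem _
    | add a b _ _ ha hb => rw [map_add]; exact Submodule.add_mem _ ha hb
    | smul c a _ ha =>
      rw [_root_.map_smul]
      exact Submodule.smul_mem _ (X.presheaf.map (homOfLE (X.basicOpen_le g)).op c) ha
  have h1 := hspan _ (h m)
  rw [_root_.map_smul] at h1
  have h2 : resₗ F (X.basicOpen_le g) m = (g ^ n) • y := hm.symm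
  rw [h2, ← mul_smul] at h1
  have h3 : (g * g ^ n) • y = (X.presheaf.map (homOfLE (X.basicOpen_le g)).op (g * g ^ n)) • y := rfl
  rw [h3] at h1
  have h4 : IsUnit (X.presheaf.map (homOfLE (X.basicOpen_le g)).op (g * g ^ n)) := by
    rw [map_mul, map_pow]; exact hu.mul (hu.pow n)
  exact (Submodule.smul_mem_iff_of_isUnit _ h4).mp h1

/-- Descent along one flat surjective morphism from an affine scheme to an affine open. -/
theorem locGLE_of_affine {X : Scheme.{u}} {F : X.Modules} (hF : Coh.IsQCoh F) {U : X.Opens}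
    (hU : IsAffineOpen U) {Z : Scheme.{u}} [IsAffine Z] (q : Z ⟶ U) [Flat q] [Surjective q] {r : ℕ}
    (h : ∀ z : Z, LocGLE r ((Scheme.Modules.pullback (q ≫ U.ι)).obj F) z) (x : X) (hx : x ∈ U) :
    LocGLE r F x := by
  have e : ∀ W : Z.Opens, W ≤ (q ≫ U.ι) ⁻¹ᵁ U := by
    intro W z _
    exact (q z).2
  set G := (Scheme.Modules.pullback (q ≫ U.ι)).obj F with hGdef
  have hG : Coh.IsQCoh G := Groth.Agent.VarietyB.PullSec.isQCoh_pullback _ _ hF
  have hFT : SheafOfModules.IsFiniteType (R := Z.ringCatSheaf) G := by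
    rw [isFT_iff]
    intro z
    obtain ⟨V, hV, G', hG', -⟩ := h z
    exact ⟨V, hV, G', ⟨hG'⟩⟩
  -- sections over `U` form a finite module
  have hfin : Module.Finite Γ(X, U) Γ(F, U) := by
    let : Algebra Γ(X, U) Γ(Z, ⊤) := ((q ≫ U.ι).appLE U ⊤ (e ⊤)).hom.toAlgebra
    have hff : Module.FaithfullyFlat Γ(X, U) Γ(Z, ⊤) := by
      have hfl : Module.Flat Γ(X, U) Γ(Z, ⊤) :=
        HasRingHomProperty.appLE (P := @Flat) (q ≫ U.ι) inferInstance ⟨U, hU⟩
          ⟨⊤, isAffineOpen_top Z⟩ (e ⊤)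
      apply Module.FaithfullyFlat.of_comap_surjective
      intro p
      have hp : hU.fromSpec p ∈ U := by
        have : hU.fromSpec p ∈ Set.range hU.fromSpec := ⟨p, rfl⟩
        rwa [hU.range_fromSpec] at this
      obtain ⟨z, hz⟩ := q.surjective ⟨_, hp⟩
      have hz2 : z ∈ Set.range (isAffineOpen_top Z).fromSpec := by
        rw [(isAffineOpen_top Z).range_fromSpec]
        trivial
      obtain ⟨z', rfl⟩ := hz2
      refine ⟨z', ?_⟩
      apply hU.fromSpec.isOpenEmbedding.injective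
      have h6 := IsAffineOpen.SpecMap_appLE_fromSpec (q ≫ U.ι) hU (isAffineOpen_top Z) (e ⊤)
      have h7 : hU.fromSpec (Spec.map ((q ≫ U.ι).appLE U ⊤ (e ⊤)) z') =
          U.ι (q ((isAffineOpen_top Z).fromSpec z')) := by
        rw [← Scheme.Hom.comp_apply, h6, Scheme.Hom.comp_apply, Scheme.Hom.comp_apply]
      rw [hz] at h7
      exact h7
    let := Groth.Agent.VarietyB.PullSec.secModule (q ≫ U.ι) F (e ⊤)
    have : IsScalarTower Γ(X, U) Γ(Z, ⊤) Γ((Scheme.Modules.pullback (q ≫ U.ι)).obj F, ⊤) :=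
        ⟨fun a b c => by rw [Algebra.smul_def, mul_smul]; rfl⟩
    have hbc : IsBaseChange Γ(Z, ⊤) (Groth.Agent.VarietyB.PullSec.secₗ (q ≫ U.ι) F (e ⊤)) :=
      Groth.Agent.VarietyB.PullSec.isBaseChange_secₗ (q ≫ U.ι) F (e ⊤) hF hU (isAffineOpen_top Z)
    have h4 : Module.Finite Γ(Z, ⊤) Γ((Scheme.Modules.pullback (q ≫ U.ι)).obj F, ⊤) :=
      finite_sections (isAffineOpen_top Z) hG hFT
    have h5 : Module.Finite Γ(Z, ⊤) (Γ(Z, ⊤) ⊗[Γ(X, U)] Γ(F, U)) :=
      Module.Finite.equiv hbc.equiv.symm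
    exact Module.Finite.of_finite_tensorProduct_of_faithfullyFlat Γ(Z, ⊤)
  -- a point above
  obtain ⟨z, hz⟩ := q.surjective ⟨x, hx⟩
  obtain ⟨V, hzV, hV⟩ := h z
  obtain ⟨W, hW, hzW, hWV⟩ := exists_isAffineOpen_mem_and_subset (x := z) (U := V) hzV
  have h8 : SpanLE r Γ(Z, W) Γ(G, W) := (gle_iff hW hG).mp (gle_of_le hWV hV)
  let : Algebra Γ(X, U) Γ(Z, W) := ((q ≫ U.ι).appLE U W (e W)).hom.toAlgebra
  let := Groth.Agent.VarietyB.PullSec.secModule (q ≫ U.ι) F (e W)
  have : IsScalarTower Γ(X, U) Γ(Z, W) Γ((Scheme.Modules.pullback (q ≫ U.ι)).obj F, W) :=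
      ⟨fun a b c => by rw [Algebra.smul_def, mul_smul]; rfl⟩
  have hbc : IsBaseChange Γ(Z, W) (Groth.Agent.VarietyB.PullSec.secₗ (q ≫ U.ι) F (e W)) :=
    Groth.Agent.VarietyB.PullSec.isBaseChange_secₗ (q ≫ U.ι) F (e W) hF hU hW
  have h9 : SpanLE r Γ(Z, W) (Γ(Z, W) ⊗[Γ(X, U)] Γ(F, U)) := (spanLE_congr hbc.equiv).mpr h8
  obtain ⟨v, g, hg, hspan⟩ := exists_span_near Γ(Z, W) (hW.primeIdealOf ⟨z, hzW⟩) h9
  refine ⟨X.basicOpen g, ?_, gle_of_span hF hU v g hspan⟩
  have h10 : (hW.primeIdealOf ⟨z, hzW⟩).comap (algebraMap Γ(X, U) Γ(Z, W)) =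
      hU.primeIdealOf ⟨(q ≫ U.ι) z, e W hzW⟩ :=
    IsAffineOpen.comap_primeIdealOf_appLE U hU W hW (e W) hzW
  rw [h10] at hg
  have h11 : hU.primeIdealOf ⟨(q ≫ U.ι) z, e W hzW⟩ ∈ PrimeSpectrum.basicOpen g := hg
  rw [← hU.fromSpec_preimage_basicOpen] at h11
  have h12 : hU.fromSpec (hU.primeIdealOf ⟨(q ≫ U.ι) z, e W hzW⟩) ∈ X.basicOpen g := h11
  rw [hU.fromSpec_primeIdealOf] at h12
  have h13 : (q ≫ U.ι) z = x := by rw [Scheme.Hom.comp_apply, hz]; rfl
  have h14 : (q ≫ U.ι) z ∈ X.basicOpen g := h12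
  rw [h13] at h14
  exact h14

/-- Local generation by at most `r` sections descends along fpqc covers. -/
theorem locGLE_of_fpqc {ι : Type u} {X : Scheme.{u}} {Xi : ι → Scheme.{u}} (f : ∀ i, Xi i ⟶ X)
    (hf : Presieve.ofArrows Xi f ∈ Scheme.fpqcPrecoverage X) {F : X.Modules} (hF : Coh.IsQCoh F)
    {r : ℕ} (h : ∀ i (y : Xi i), LocGLE r ((Scheme.Modules.pullback (f i)).obj F) y) (x : X) :
    LocGLE r F x := by
  obtain ⟨U, hU, hxU, -⟩ := exists_isAffineOpen_mem_and_subset (x := x) (U := (⊤ : X.Opens)) trivial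
  obtain ⟨n, α, O, hle, hO, h1, h2⟩ := K388.FpqcTop.exists_affine f hf U hU
  have hO' : ∀ k, IsAffine (O k : Scheme.{u}) := fun k => hO k
  let Z : Scheme.{u} := ∐ fun k : Fin n => (O k : Scheme.{u})
  let q : Z ⟶ U := Sigma.desc fun k => (f (α k)).resLE U (O k) (hle k)
  have hZ : IsAffine Z := inferInstance
  refine locGLE_of_affine hF hU q (fun z => ?_) x hxU
  obtain ⟨k, w, rfl⟩ := (sigmaOpenCover (fun k : Fin n => (O k : Scheme.{u}))).exists_eq z
  change LocGLE r _ (Sigma.ι (fun k : Fin n => (O k : Scheme.{u})) k w)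
  refine LocGLE.of_restrict (Sigma.ι (fun k : Fin n => (O k : Scheme.{u})) k) ?_
  have hk : Sigma.ι (fun k : Fin n => (O k : Scheme.{u})) k ≫ q ≫ U.ι = (O k).ι ≫ f (α k) := by
    rw [← Category.assoc, Sigma.ι_desc, Scheme.Hom.resLE_comp_ι]
  refine LocGLE.of_iso ?_ (LocGLE.pullback (O k).ι (h (α k) ((O k).ι w)))
  exact (Scheme.Modules.pullbackComp (O k).ι (f (α k))).app F ≪≫
    (Scheme.Modules.pullbackCongr hk.symm).app F ≪≫
    ((Scheme.Modules.pullbackComp (Sigma.ι (fun k : Fin n => (O k : Scheme.{u})) k) (q ≫ U.ι)).app F).symm ≪≫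
    ((Scheme.Modules.restrictFunctorIsoPullback (Sigma.ι (fun k : Fin n => (O k : Scheme.{u})) k)).app _).symm

end K389.GenLe
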