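import Mathlib.AlgebraicGeometry.Cover.Sigma
import Mathlib.AlgebraicGeometry.Sites.Fpqc
import Mathlib.AlgebraicGeometry.Morphisms.UnderlyingMap

/-!
# Locality at the source for families, from single surjective morphisms
-/

set_option autoImplicit false
open CategoryTheory CategoryTheory.Limits AlgebraicGeometry Opposite
universe u

namespace K389.SourceFam

/-- A property local at the source can be checked on the summands of a disjoint union. -/
theorem of_sigma {P : MorphismProperty Scheme.{u}} [IsZariskiLocalAtSource P] {ι : Type u}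
    {X : ι → Scheme.{u}} {Y : Scheme.{u}} (g : (∐ X) ⟶ Y) (h : ∀ i, P (Sigma.ι X i ≫ g)) : P g := by
  rw [IsZariskiLocalAtSource.iff_of_openCover (P := P) (sigmaOpenCover _)]
  exact h

theorem surjective_sigmaDesc {ι : Type u} {X : ι → Scheme.{u}} {Y : Scheme.{u}}
    (f : ∀ i, X i ⟶ Y) (h : ∀ y : Y, ∃ i, y ∈ Set.range (f i).base) : Surjective (Sigma.desc f) := by
  refine ⟨fun y => ?_⟩
  obtain ⟨i, z, hz⟩ := h y
  refine ⟨(Sigma.ι X i).base z, ?_⟩
  rw [← hz, ← Sigma.ι_desc f i]
  rfl

theorem sigmaDesc {Q : MorphismProperty Scheme.{u}} [IsZariskiLocalAtSource Q] {ι : Type u}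
    {X : ι → Scheme.{u}} {Y : Scheme.{u}} (f : ∀ i, X i ⟶ Y) (h : ∀ i, Q (f i)) :
    Q (Sigma.desc f) := by
  refine of_sigma _ fun i => ?_
  rw [Sigma.ι_desc]
  exact h i

/-- Local at the source for families of `Q`-morphisms, from the case of a single surjective morphism. -/
theorem isLocalAtSource_of_single {P Q : MorphismProperty Scheme.{u}} [IsZariskiLocalAtSource P]
    [IsZariskiLocalAtSource Q]
    (h1 : ∀ {X' X Y : Scheme.{u}} (f : X' ⟶ X) (g : X ⟶ Y), Q f → P g → P (f ≫ g))
    (h2 : ∀ {X' X Y : Scheme.{u}} (f : X' ⟶ X) (g : X ⟶ Y), Q f → Surjective f → P (f ≫ g) → P g) :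
    MorphismProperty.IsLocalAtSource P (Scheme.precoverage Q) := by
  refine MorphismProperty.IsLocalAtSource.mk_of_small.{u} ?_ ?_
  · intro X Y f 𝒰 hf i
    have h := 𝒰.mem₀
    rw [Scheme.ofArrows_mem_precoverage_iff] at h
    exact h1 _ _ (h.2 i) hf
  · intro X Y f 𝒰 hf
    have h := 𝒰.mem₀
    rw [Scheme.ofArrows_mem_precoverage_iff] at h
    refine h2 (Sigma.desc 𝒰.f) f (sigmaDesc _ h.2) (surjective_sigmaDesc _ h.1) ?_
    refine of_sigma _ fun i => ?_
    rw [Sigma.ι_desc_assoc]
    exact hf i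

end K389.SourceFam
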