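import Groth.Agent.Ega4B.CMGlobal
import Groth.Agent.Ega4B.SkLocal
import Groth.Agent.Ega4C.SkFlat
import Groth.Agent.EGA4.K112.GoodSk
import Groth.Agent.Flat2D.CMBase
import Groth.Agent.S0116
import Groth.Agent.S9142
import Groth.Agent.Synt.K563.SchDict
import Mathlib.AlgebraicGeometry.Noetherian
import Mathlib.AlgebraicGeometry.Limits

/-!
# Stalks and localizations at primes on affine opens; `(S_k)` and Cohen–Macaulay
-/

set_option autoImplicit false
set_option backward.isDefEq.respectTransparency false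
set_option backward.isDefEq.respectTransparency.types false

universe u

open CategoryTheory CategoryTheory.Limits AlgebraicGeometry TopologicalSpace

namespace K389.StalkLoc

/-- Every localization at a prime of the coordinate ring of an affine open is a stalk. -/
theorem exists_stalk_of_prime {X : Scheme.{u}} {U : X.Opens} (hU : IsAffineOpen U)
    (q : Ideal Γ(X, U)) [hq : q.IsPrime] :
    ∃ x ∈ U, Nonempty (X.presheaf.stalk x ≃+* Localization.AtPrime q) := by
  let y : PrimeSpectrum Γ(X, U) := ⟨q, hq⟩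
  have hy : hU.fromSpec y ∈ U := by
    rw [← SetLike.mem_coe, ← hU.range_fromSpec]
    exact ⟨y, rfl⟩
  let _ : Algebra Γ(X, U) (X.presheaf.stalk (hU.fromSpec y)) :=
    TopCat.Presheaf.algebra_section_stalk X.presheaf (⟨hU.fromSpec y, hy⟩ : U)
  have : IsLocalization.AtPrime (X.presheaf.stalk (hU.fromSpec y)) q := hU.isLocalization_stalk' y hy
  exact ⟨hU.fromSpec y, hy,
    ⟨(IsLocalization.algEquiv q.primeCompl (X.presheaf.stalk (hU.fromSpec y))
      (Localization.AtPrime q)).toRingEquiv⟩⟩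

/-- Every stalk at a point of an affine open is a localization at a prime. -/
theorem exists_prime_of_stalk {X : Scheme.{u}} {U : X.Opens} (hU : IsAffineOpen U)
    (x : X) (hx : x ∈ U) :
    ∃ (q : Ideal Γ(X, U)) (_ : q.IsPrime), Nonempty (X.presheaf.stalk x ≃+* Localization.AtPrime q) := by
  let _ : Algebra Γ(X, U) (X.presheaf.stalk x) :=
    TopCat.Presheaf.algebra_section_stalk X.presheaf (⟨x, hx⟩ : U)
  have := hU.isLocalization_stalk ⟨x, hx⟩
  exact ⟨(hU.primeIdealOf ⟨x, hx⟩).asIdeal, (hU.primeIdealOf ⟨x, hx⟩).isPrime,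
    ⟨(IsLocalization.algEquiv (hU.primeIdealOf ⟨x, hx⟩).asIdeal.primeCompl (X.presheaf.stalk x)
      (Localization.AtPrime (hU.primeIdealOf ⟨x, hx⟩).asIdeal)).toRingEquiv⟩⟩

/-- Cohen–Macaulay stalks and Cohen–Macaulay coordinate rings. -/
theorem isCM_section {X : Scheme.{u}} [IsLocallyNoetherian X]
    (h : ∀ x : X, LocCoh.IsCohenMacaulayLocalRing (X.presheaf.stalk x)) (U : X.affineOpens) :
    LocCoh.IsCohenMacaulayRing Γ(X, U.1) := by
  have hN : IsNoetherianRing Γ(X, U.1) := IsLocallyNoetherian.component_noetherian U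
  refine { isCohenMacaulayLocalRing_localization := fun q hq => ?_ }
  obtain ⟨x, -, ⟨e⟩⟩ := exists_stalk_of_prime U.2 q
  exact Groth.Agent.Ega4C.FlatLocal.isCM_of_ringEquiv e (h x)

theorem isCM_stalk {X : Scheme.{u}} (U : X.affineOpens) (h : LocCoh.IsCohenMacaulayRing Γ(X, U.1))
    (x : X) (hx : x ∈ U.1) : LocCoh.IsCohenMacaulayLocalRing (X.presheaf.stalk x) := by
  obtain ⟨q, hq, ⟨e⟩⟩ := exists_prime_of_stalk U.2 x hx
  exact Groth.Agent.Ega4C.FlatLocal.isCM_of_ringEquiv e.symm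
    (h.isCohenMacaulayLocalRing_localization q)

/-- `(S_k)` of the stalks and of the coordinate rings. -/
theorem hasSk_section {X : Scheme.{u}} (k : ℕ)
    (h : ∀ x : X, LocCoh.HasSk k (X.presheaf.stalk x) (X.presheaf.stalk x)) (U : X.affineOpens) :
    LocCoh.HasSk k Γ(X, U.1) Γ(X, U.1) := by
  rw [Groth.Agent.Ega4B.SkLocal.hasSk_iff_forall_hasSkAt]
  intro q hq
  rw [Groth.Agent.Ega4B.SkLocal.hasSkAt_self_iff]
  obtain ⟨x, -, ⟨e⟩⟩ := exists_stalk_of_prime U.2 q
  exact Groth.Agent.Ega4B.SkLocal.hasSk_of_ringEquiv k e (h x)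

theorem hasSk_stalk {X : Scheme.{u}} (k : ℕ) (U : X.affineOpens)
    (h : LocCoh.HasSk k Γ(X, U.1) Γ(X, U.1))
    (x : X) (hx : x ∈ U.1) : LocCoh.HasSk k (X.presheaf.stalk x) (X.presheaf.stalk x) := by
  obtain ⟨q, hq, ⟨e⟩⟩ := exists_prime_of_stalk U.2 x hx
  rw [Groth.Agent.Ega4B.SkLocal.hasSk_iff_forall_hasSkAt] at h
  have h1 := h q
  rw [Groth.Agent.Ega4B.SkLocal.hasSkAt_self_iff] at h1
  exact Groth.Agent.Ega4B.SkLocal.hasSk_of_ringEquiv k e.symm h1

section Cover

variable {ι : Type u} {S : Scheme.{u}} {X : ι → Scheme.{u}} (f : ∀ i, X i ⟶ S)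

/-- Locally Noetherian descends along jointly surjective families of flat morphisms locally of
finite presentation. -/
theorem isLocallyNoetherian_of_cover (hsurj : ∀ s : S, ∃ i, s ∈ Set.range (f i).base)
    (h1 : ∀ i, Flat (f i)) (h2 : ∀ i, LocallyOfFinitePresentation (f i))
    (h3 : ∀ i, IsLocallyNoetherian (X i)) : IsLocallyNoetherian S := by
  have h4 : IsLocallyNoetherian (∐ X) := by
    rw [isLocallyNoetherian_iff_openCover (sigmaOpenCover X)]
    exact h3
  have h5 : Flat (Sigma.desc f) := inferInstance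
  have h6 : LocallyOfFinitePresentation (Sigma.desc f) := by
    rw [IsZariskiLocalAtSource.iff_of_openCover (P := @LocallyOfFinitePresentation) (sigmaOpenCover X)]
    intro i
    have : (sigmaOpenCover X).f i ≫ Sigma.desc f = f i := Sigma.ι_desc f i
    rw [this]
    exact h2 i
  have h7 : Surjective (Sigma.desc f) := by
    constructor
    intro s
    obtain ⟨i, x, hx⟩ := hsurj s
    refine ⟨Sigma.ι X i x, ?_⟩
    rw [← Scheme.Hom.comp_apply, Sigma.ι_desc]
    exact hx
  exact Groth.Agent.S0116.result (Sigma.desc f)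

end Cover

/-- Cohen–Macaulay local rings ascend along syntomic morphisms. -/
theorem isCM_of_syntomic {X S : Scheme.{u}} (f : X ⟶ S) (hf : Synt.IsSyntomicMor f)
    [IsLocallyNoetherian S] (h : ∀ s : S, LocCoh.IsCohenMacaulayLocalRing (S.presheaf.stalk s))
    (x : X) : LocCoh.IsCohenMacaulayLocalRing (X.presheaf.stalk x) := by
  obtain ⟨h1, h2⟩ := K563.SchDict.flat_and_lfp_of_isSyntomicMor f hf
  have hXN : IsLocallyNoetherian X := LocallyOfFiniteType.isLocallyNoetherian f
  obtain ⟨U, V, e, hx, hs⟩ := hf x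
  let _ := (f.appLE V.1 U.1 e).hom.toAlgebra
  have hA : IsNoetherianRing Γ(S, V.1) := IsLocallyNoetherian.component_noetherian V
  have hB : IsNoetherianRing Γ(X, U.1) := IsLocallyNoetherian.component_noetherian U
  have hfl : Module.Flat Γ(S, V.1) Γ(X, U.1) := hs.1
  have h3 := Groth.Agent.Ega4B.CMGlobal.isCohenMacaulayRing_of_flat_of_fibres Γ(S, V.1) Γ(X, U.1)
    (isCM_section h V) fun p hp => Groth.Agent.S9142.result p.ResidueField (p.Fiber Γ(X, U.1)) (hs.2.2 ⟨p, hp⟩)
  exact isCM_stalk U h3 x hx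

/-- `(S_k)` ascends along syntomic morphisms. -/
theorem hasSk_of_syntomic {X S : Scheme.{u}} (f : X ⟶ S) (hf : Synt.IsSyntomicMor f) (k : ℕ)
    [IsLocallyNoetherian S] (h : ∀ s : S, LocCoh.HasSk k (S.presheaf.stalk s) (S.presheaf.stalk s))
    (x : X) : LocCoh.HasSk k (X.presheaf.stalk x) (X.presheaf.stalk x) := by
  obtain ⟨h1, h2⟩ := K563.SchDict.flat_and_lfp_of_isSyntomicMor f hf
  have hXN : IsLocallyNoetherian X := LocallyOfFiniteType.isLocallyNoetherian f
  obtain ⟨U, V, e, hx, hs⟩ := hf x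
  let _ := (f.appLE V.1 U.1 e).hom.toAlgebra
  have hA : IsNoetherianRing Γ(S, V.1) := IsLocallyNoetherian.component_noetherian V
  have hB : IsNoetherianRing Γ(X, U.1) := IsLocallyNoetherian.component_noetherian U
  have hfl : Module.Flat Γ(S, V.1) Γ(X, U.1) := hs.1
  have h3 := K112.GoodSk.hasSk_of_flat_of_CM_fibres k Γ(S, V.1) Γ(X, U.1)
    (hasSk_section k h V) fun p hp => Groth.Agent.S9142.result p.ResidueField (p.Fiber Γ(X, U.1)) (hs.2.2 ⟨p, hp⟩)
  exact hasSk_stalk k U h3 x hx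

/-- `(S_k)` of a stalk descends along flat morphisms. -/
theorem hasSk_stalk_of_flat {X S : Scheme.{u}} (f : X ⟶ S) [Flat f] [IsLocallyNoetherian S]
    [IsLocallyNoetherian X] (k : ℕ) (x : X)
    (h : LocCoh.HasSk k (X.presheaf.stalk x) (X.presheaf.stalk x)) :
    LocCoh.HasSk k (S.presheaf.stalk (f x)) (S.presheaf.stalk (f x)) := by
  let _ : Algebra (S.presheaf.stalk (f x)) (X.presheaf.stalk x) := (f.stalkMap x).hom.toAlgebra
  have h1 : Module.Flat (S.presheaf.stalk (f x)) (X.presheaf.stalk x) := Flat.stalkMap f x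
  have h2 : IsLocalHom (algebraMap (S.presheaf.stalk (f x)) (X.presheaf.stalk x)) :=
    inferInstanceAs (IsLocalHom (f.stalkMap x).hom)
  have h3 : Module.FaithfullyFlat (S.presheaf.stalk (f x)) (X.presheaf.stalk x) :=
    Module.FaithfullyFlat.of_flat_of_isLocalHom
  exact K112.GoodSk.hasSk_of_faithfullyFlat k (S.presheaf.stalk (f x)) (X.presheaf.stalk x) h

end K389.StalkLoc
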