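import Mathlib.AlgebraicGeometry.Sites.Fpqc
import Mathlib.AlgebraicGeometry.Restrict
import Mathlib.AlgebraicGeometry.Morphisms.FinitePresentation

/-!
# The largest open of the target over which a property local on the target holds
-/

set_option autoImplicit false
set_option backward.isDefEq.respectTransparency.types false
open CategoryTheory CategoryTheory.Limits AlgebraicGeometry Opposite
universe u

namespace K389.TargetOpen

variable {P : MorphismProperty Scheme.{u}} [MorphismProperty.IsLocalAtTarget P Scheme.fppfPrecoverage]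

theorem of_isPullback {X Y X' Y' : Scheme.{u}} {f : X ⟶ Y} {g : Y' ⟶ Y} [Flat g]
    [LocallyOfFinitePresentation g] {g' : X' ⟶ X} {f' : X' ⟶ Y'} (h : IsPullback g' f' f g)
    (hf : P f) : P f' := by
  let Z : Bool → Scheme.{u} := fun b => if b then Y' else Y
  let z : ∀ b, Z b ⟶ Y := fun b => match b with
    | true => g
    | false => 𝟙 Y
  have hz : Presieve.ofArrows Z z ∈ Scheme.precoverage (@Flat ⊓ @LocallyOfFinitePresentation) Y := by
    rw [Scheme.ofArrows_mem_precoverage_iff]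
    refine ⟨fun x => ⟨false, x, rfl⟩, ?_⟩
    rintro (_ | _)
    · exact ⟨inferInstanceAs (Flat (𝟙 Y)), inferInstanceAs (LocallyOfFinitePresentation (𝟙 Y))⟩
    · exact ⟨‹_›, ‹_›⟩
  have h1 : P (pullback.snd f g) :=
    MorphismProperty.IsLocalAtTarget.pullbackSnd (K := Scheme.fppfPrecoverage)
      (R := Presieve.ofArrows Z z) hz (Presieve.ofArrows.mk true) hf
  rw [← h.isoPullback_hom_snd, P.cancel_left_of_respectsIso]
  exact h1

theorem of_cover {X Y : Scheme.{u}} (f : X ⟶ Y) {ι : Type*} {Y' : ι → Scheme.{u}}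
    (g : ∀ i, Y' i ⟶ Y) (h1 : ∀ i, Flat (g i)) (h2 : ∀ i, LocallyOfFinitePresentation (g i))
    (h3 : ∀ y : Y, ∃ i, y ∈ Set.range (g i).base) {X' : ι → Scheme.{u}} (g' : ∀ i, X' i ⟶ X)
    (f' : ∀ i, X' i ⟶ Y' i) (h : ∀ i, IsPullback (g' i) (f' i) f (g i)) (hf : ∀ i, P (f' i)) :
    P f := by
  have hz : Presieve.ofArrows Y' g ∈ Scheme.precoverage (@Flat ⊓ @LocallyOfFinitePresentation) Y := by
    rw [Scheme.ofArrows_mem_precoverage_iff]
    exact ⟨h3, fun i => ⟨h1 i, h2 i⟩⟩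
  refine MorphismProperty.IsLocalAtTarget.of_forall_pullbackSnd (K := Scheme.fppfPrecoverage)
      (R := Presieve.ofArrows Y' g) hz ?_
  rintro _ _ _ ⟨i⟩
  have := hf i
  rw [← (h i).isoPullback_hom_snd, P.cancel_left_of_respectsIso] at this
  exact this

/-- The square between restrictions of `f` over `U ≤ V`. -/
theorem isPullback_homOfLE {X Y : Scheme.{u}} (f : X ⟶ Y) {U V : Y.Opens} (e : U ≤ V) :
    IsPullback (X.homOfLE (f.preimage_mono e)) (f ∣_ U) (f ∣_ V) (Y.homOfLE e) := by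
  have h1 := (isPullback_morphismRestrict f U).flip
  have h2 := (isPullback_morphismRestrict f V).flip
  refine IsPullback.of_right (h₁₂ := (f ⁻¹ᵁ V).ι) (h₂₂ := V.ι) (v₁₃ := f) ?_ ?_ h2
  · simpa using h1
  · exact (morphismRestrict_homOfLE f U V e).symm

theorem exists_largest {X Y : Scheme.{u}} (f : X ⟶ Y) :
    ∃ W : Y.Opens, P (f ∣_ W) ∧ (∀ W₀ : Y.Opens, P (f ∣_ W₀) → W₀ ≤ W) := by
  let W : Y.Opens := sSup {W₀ | P (f ∣_ W₀)}
  refine ⟨W, ?_, fun W₀ h => le_sSup h⟩
  have hW : ∀ y : W, ∃ W₀ : Y.Opens, P (f ∣_ W₀) ∧ y.1 ∈ W₀ := by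
    rintro ⟨y, hy⟩
    obtain ⟨W₀, h1, h2⟩ := TopologicalSpace.Opens.mem_sSup.1 hy
    exact ⟨W₀, h1, h2⟩
  choose V hV hyV using hW
  have hle : ∀ y, V y ≤ W := fun y => le_sSup (hV y)
  refine of_cover (f ∣_ W) (fun y : W => Y.homOfLE (hle y)) (fun y => inferInstance)
    (fun y => inferInstance) (fun y => ⟨y, ⟨y.1, hyV y⟩, ?_⟩) (fun y => X.homOfLE (f.preimage_mono (hle y)))
    (fun y => f ∣_ V y) (fun y => isPullback_homOfLE f (hle y)) hV
  apply Subtype.ext
  have := congr($(Y.homOfLE_ι (hle y)) ⟨y.1, hyV y⟩)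
  exact this

/-- The image of a flat locally finitely presented morphism after which the property holds. -/
theorem range_le {X Y : Scheme.{u}} (f : X ⟶ Y) {W : Y.Opens}
    (hW : ∀ W₀ : Y.Opens, P (f ∣_ W₀) → W₀ ≤ W) {X' Y' : Scheme.{u}} (g : Y' ⟶ Y) [Flat g]
    [LocallyOfFinitePresentation g] {g' : X' ⟶ X} {f' : X' ⟶ Y'} (h : IsPullback g' f' f g)
    (hf : P f') : Set.range g.base ⊆ (W : Set Y) := by
  let V : Y.Opens := ⟨Set.range g.base, g.isOpenMap.isOpen_range⟩
  suffices hV : P (f ∣_ V) from hW V hV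
  let k : Y' ⟶ V.toScheme := IsOpenImmersion.lift V.ι g (by simp [V])
  have hk : k ≫ V.ι = g := IsOpenImmersion.lift_fac _ _ _
  have hk1 : Flat k := by
    have : Flat (k ≫ V.ι) := by rw [hk]; infer_instance
    exact MorphismProperty.of_postcomp (W := @Flat) (W' := @IsOpenImmersion) k V.ι inferInstance this
  have hk2 : LocallyOfFinitePresentation k := by
    have : LocallyOfFinitePresentation (k ≫ V.ι) := by rw [hk]; infer_instance
    exact MorphismProperty.of_postcomp (W := @LocallyOfFinitePresentation) (W' := @IsOpenImmersion) k V.ι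
      inferInstance this
  have hpb := (isPullback_morphismRestrict f V).flip
  have hcomm : g' ≫ f = (f' ≫ k) ≫ V.ι := by rw [Category.assoc, hk, h.w]
  have hlift := IsPullback.of_right (h₁₁ := hpb.lift g' (f' ≫ k) hcomm) (h₁₂ := (f ⁻¹ᵁ V).ι)
    (h₂₁ := k) (h₂₂ := V.ι) (v₁₁ := f') (v₁₂ := f ∣_ V) (v₁₃ := f) (by
      rw [hpb.lift_fst, hk]
      exact h) (hpb.lift_snd _ _ _) hpb
  refine of_cover (ι := PUnit.{u+1}) (f ∣_ V) (fun _ => k) (fun _ => hk1) (fun _ => hk2) (fun y => ⟨⟨⟩, ?_⟩)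
    (fun _ => hpb.lift g' (f' ≫ k) hcomm) (fun _ => f') (fun _ => hlift) (fun _ => hf)
  obtain ⟨y, z, hz⟩ := y
  refine ⟨z, Subtype.ext ?_⟩
  have := congr($hk z)
  exact this.trans hz

end K389.TargetOpen
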